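import Groth.Agent.Sga7.H737.R4
import Groth.Agent.Sga7.H737.FlatMonoBC
import Groth.Agent.Sga3B.Pts
import Groth.Prelude.Def_SGA7IX

/-!
# Homomorphisms from the additive group lift through open subgroups; Néron models

* `exists_lift_ga`: a homomorphism from the additive group to a separated group scheme lifts to every open subgroup scheme;
* `fibreUnipotentRankZero_of_isOpenImmersion`: unipotent rank zero passes from an open subgroup scheme to the group;
* `exists_hom_of_isNeron`: the homomorphism to a Néron model given by a homomorphism of generic fibres.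
-/

set_option autoImplicit false
universe u

open CategoryTheory CategoryTheory.Limits MonoidalCategory CartesianMonoidalCategory MonObj AlgebraicGeometry
open Groth.Agent.Models.WeilPts Groth.Agent.Sga7.H737.AffPt Groth.Agent.Sga7.H737.RatHom

namespace Groth.Agent.Sga7.H757.Glue

section Field

variable {k : Type u} [Field k] [IsAlgClosed k]

omit [IsAlgClosed k] in
theorem isIntegral_ga : IsIntegral (Red.Ga (Spec (CommRingCat.of k))).left := by
  have h1 : IsIso (Groth.Agent.Sga7.H737.R4.gaLine (k := k)).hom.left :=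
    inferInstanceAs (IsIso ((Over.forget _).map (Groth.Agent.Sga7.H737.R4.gaLine (k := k)).hom))
  have hIA : IsIntegral (line k).left := inferInstanceAs (IsIntegral (Spec (CommRingCat.of (Polynomial k))))
  have hne : Nonempty (Red.Ga (Spec (CommRingCat.of k))).left :=
    ⟨(Groth.Agent.Sga7.H737.R4.gaLine (k := k)).inv.left (Nonempty.some inferInstance)⟩
  exact isIntegral_of_isOpenImmersion (Groth.Agent.Sga7.H737.R4.gaLine (k := k)).hom.left

omit [IsAlgClosed k] in
theorem lft_ga : LocallyOfFiniteType (Red.Ga (Spec (CommRingCat.of k))).hom := by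
  have h1 : IsIso (Groth.Agent.Sga7.H737.R4.gaLine (k := k)).hom.left :=
    inferInstanceAs (IsIso ((Over.forget _).map (Groth.Agent.Sga7.H737.R4.gaLine (k := k)).hom))
  have hftl : LocallyOfFiniteType (line k).hom := by
    have : Algebra.FiniteType k (Polynomial k) := inferInstance
    change LocallyOfFiniteType (Spec.map (CommRingCat.ofHom (algebraMap k (Polynomial k))))
    rw [HasRingHomProperty.Spec_iff (P := @LocallyOfFiniteType)]
    exact (RingHom.finiteType_algebraMap).mpr this
  rw [← Over.w (Groth.Agent.Sga7.H737.R4.gaLine (k := k)).hom]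
  infer_instance

/-- A homomorphism from the additive group lifts to every open subgroup scheme. -/
theorem exists_lift_ga {G N : Over (Spec (CommRingCat.of k))} [GrpObj G] [GrpObj N] (u : G ⟶ N) [IsMonHom u]
    [IsOpenImmersion u.left] (j : Red.Ga (Spec (CommRingCat.of k)) ⟶ N) [IsMonHom j] :
    ∃ j' : Red.Ga (Spec (CommRingCat.of k)) ⟶ G, IsMonHom j' ∧ j' ≫ u = j := by
  have hI : IsIntegral (Red.Ga (Spec (CommRingCat.of k))).left := isIntegral_ga
  have hft : LocallyOfFiniteType (Red.Ga (Spec (CommRingCat.of k))).hom := lft_ga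
  have hqc : QuasiCompact (Red.Ga (Spec (CommRingCat.of k))).hom := by
    have h1 : IsIso (Groth.Agent.Sga7.H737.R4.gaLine (k := k)).hom.left :=
      inferInstanceAs (IsIso ((Over.forget _).map (Groth.Agent.Sga7.H737.R4.gaLine (k := k)).hom))
    have h2 : QuasiCompact (line k).hom := by
      change QuasiCompact (Spec.map _)
      infer_instance
    rw [← Over.w (Groth.Agent.Sga7.H737.R4.gaLine (k := k)).hom]
    infer_instance
  have hsg : IsSeparated (Red.Ga (Spec (CommRingCat.of k))).hom := Groth.Agent.Books.AntiAffine.isSeparated_hom _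
  have hI2 : IsIntegral (Red.Ga (Spec (CommRingCat.of k)) ⊗ Red.Ga (Spec (CommRingCat.of k))).left :=
    S1582.result k _ _ (Red.Ga (Spec (CommRingCat.of k))).hom (Red.Ga (Spec (CommRingCat.of k))).hom
  have hsep : IsSeparated N.hom := Groth.Agent.Books.AntiAffine.isSeparated_hom N
  have hmono : Mono u := mono_of_isOpenImmersion u
  let V : (Red.Ga (Spec (CommRingCat.of k))).left.Opens := j.left ⁻¹ᵁ u.left.opensRange
  have hr : Set.range (opnι V ≫ j).left ⊆ Set.range u.left := by
    rintro _ ⟨x, rfl⟩
    exact x.2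
  let h : opn V ⟶ G := liftO u (opnι V ≫ j) hr
  have hh : h ≫ u = opnι V ≫ j := liftO_comp u (opnι V ≫ j) hr
  have hne : Nonempty (opn V).left := by
    let x₀ : (𝟙_ (Over (Spec (CommRingCat.of k)))).left := IsLocalRing.closedPoint k
    refine ⟨⟨η[Red.Ga (Spec (CommRingCat.of k))].left x₀, ?_⟩⟩
    refine ⟨η[G].left x₀, ?_⟩
    have h1 : η[G] ≫ u = η[Red.Ga (Spec (CommRingCat.of k))] ≫ j :=
      (IsMonHom.one_hom (f := u)).trans (IsMonHom.one_hom (f := j)).symm
    exact congr($(h1).left x₀)
  obtain ⟨j', hj', hj⟩ := exists_hom (opnι V) h (by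
    intro X x y z hxyz
    have h2 : ((x ≫ opnι V) * (y ≫ opnι V)) ≫ j = ((x ≫ opnι V) ≫ j) * ((y ≫ opnι V) ≫ j) := mul_comp _ _ j
    rw [← cancel_mono u, mul_comp, Category.assoc, Category.assoc, Category.assoc, hh, ← Category.assoc,
      ← Category.assoc, ← Category.assoc, ← h2, hxyz])
  refine ⟨j', hj', ?_⟩
  have hdom : IsDominant (opnι V).left := isDominant_opnι V
    (IsOpen.dense V.2 ⟨_, (hne.some).2⟩)
  apply eq_of_dominant (opnι V)
  rw [← Category.assoc, hj, hh]

/-- Unipotent rank zero passes from an open subgroup scheme to the whole group scheme. -/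
theorem false_of_isClosedImmersion {G N : Over (Spec (CommRingCat.of k))} [GrpObj G] [GrpObj N] (u : G ⟶ N)
    [IsMonHom u] [IsOpenImmersion u.left]
    (hG : ∀ j : Red.Ga (Spec (CommRingCat.of k)) ⟶ G, IsMonHom j → IsClosedImmersion j.left → False)
    (j : Red.Ga (Spec (CommRingCat.of k)) ⟶ N) (hj : IsMonHom j) (hc : IsClosedImmersion j.left) : False := by
  obtain ⟨j', hj', h⟩ := exists_lift_ga u j
  refine hG j' hj' ?_
  have h1 : IsClosedImmersion (j'.left ≫ u.left) := by
    rw [← Over.comp_left, h]; exact hc
  exact IsClosedImmersion.of_comp j'.left u.left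

end Field

/-- Unipotent rank zero of a geometric fibre passes from an open subgroup scheme to the whole group scheme. -/
theorem fibreUnipotentRankZero_of_isOpenImmersion {S : Scheme.{u}} {G N : Over S} [GrpObj G] [GrpObj N] (u : G ⟶ N)
    [IsMonHom u] [IsOpenImmersion u.left] (s : S) (hG : SGA7.FibreUnipotentRankZero s G) :
    SGA7.FibreUnipotentRankZero s N := by
  have h1 : IsOpenImmersion ((Over.pullback (Red.geomPt s)).map u).left :=
    MorphismProperty.of_isPullback (Groth.Agent.Sga7.H737.FlatMonoBC.isPullback_map (Red.geomPt s) u).flip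
      inferInstance
  have h2 : IsMonHom ((Over.pullback (Red.geomPt s)).map u) := inferInstance
  exact false_of_isClosedImmersion ((Over.pullback (Red.geomPt s)).map u) hG

attribute [local instance] Functor.grpObjObj in
/-- The homomorphism to a Néron model extending a homomorphism of generic fibres. -/
theorem exists_hom_of_isNeron (R K : Type u) [CommRing R] [Field K] [Algebra R K]
    (G N : Over (Spec (CommRingCat.of R))) [GrpObj G] [GrpObj N] [Smooth G.hom] (hN : SGA7.IsNeron R K N)
    (e : (SGA7.genFib R K).obj G ⟶ (SGA7.genFib R K).obj N) [he : IsMonHom e] :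
    ∃ u : G ⟶ N, IsMonHom u ∧ (SGA7.genFib R K).map u = e := by
  obtain ⟨u, hu⟩ := (hN.2.2.2 G inferInstance).2 e
  refine ⟨u, ?_, hu⟩
  apply Groth.Agent.Sga3B.Pts.isMonHom_of_universal
  have hsm : Smooth (G ⊗ G).hom := by dsimp; infer_instance
  apply (hN.2.2.2 (G ⊗ G) hsm).1
  dsimp only at hu ⊢
  rw [Functor.map_mul, Functor.map_comp, Functor.map_comp, Functor.map_comp, Functor.map_mul, hu, mul_comp]

end Groth.Agent.Sga7.H757.Glue
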