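import Mathlib.Order.WellQuasiOrder
import Mathlib.Order.Minimal
import Mathlib.Topology.Order.IntermediateValue
import Mathlib.Topology.Order.Lattice
import Mathlib.Topology.Instances.Real.Lemmas
import Mathlib.NumberTheory.Real.Irrational
import Mathlib.Data.Set.Finite.Lattice
import Mathlib.Tactic.Linarith
import Mathlib.Tactic.Positivity

/-!
# A rational slope at which two Newton-polygon functions agree
-/

set_option autoImplicit false

namespace Groth.Agent.Sga7.H757.Comb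

open Filter Topology

theorem exists_slope_finset (S S' : Finset (ℕ × ℕ)) (h1 : ∀ x ∈ S, 1 ≤ x.2) (h2 : ∃ p, (p, 0) ∈ S')
    (h3 : ∃ x ∈ S, ∀ y ∈ S', x.1 < y.1) :
    ∃ n m : ℕ, 0 < n ∧ 0 < m ∧ ∃ x ∈ S, ∃ x' ∈ S', n * x.1 + m * x.2 = n * x'.1 + m * x'.2 ∧
      ∀ y ∈ S ∪ S', n * x.1 + m * x.2 ≤ n * y.1 + m * y.2 := by
  classical
  obtain ⟨p₀, hp₀⟩ := h2
  obtain ⟨x₀, hx₀, hx₀'⟩ := h3
  have hS : S.Nonempty := ⟨x₀, hx₀⟩
  have hS' : S'.Nonempty := ⟨_, hp₀⟩
  let L : ℕ × ℕ → ℝ → ℝ := fun x l => x.1 + l * x.2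
  have hL : ∀ x, Continuous (L x) := fun x => by fun_prop
  let F : ℝ → ℝ := fun l => S.inf' hS (fun x => L x l)
  let G : ℝ → ℝ := fun l => S'.inf' hS' (fun x => L x l)
  have hF : Continuous F := Continuous.finset_inf'_apply hS (fun x _ => hL x)
  have hG : Continuous G := Continuous.finset_inf'_apply hS' (fun x _ => hL x)
  -- endpoints
  let l₁ : ℝ := 1 / (x₀.2 + 1)
  let l₂ : ℝ := p₀ + 1
  have hl₁ : 0 < l₁ := by positivity
  have hl₂ : 0 < l₂ := by positivity
  have hl12 : l₁ ≤ l₂ := by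
    have : l₁ ≤ 1 := by
      rw [div_le_one (by positivity)]
      have : (0 : ℝ) ≤ x₀.2 := by positivity
      linarith
    have : (1 : ℝ) ≤ l₂ := by
      have : (0 : ℝ) ≤ p₀ := by positivity
      simp only [l₂]
      linarith
    linarith
  have e1 : F l₁ - G l₁ ≤ 0 := by
    have h1 : F l₁ ≤ L x₀ l₁ := Finset.inf'_le _ hx₀
    have h2 : L x₀ l₁ ≤ G l₁ := by
      refine Finset.le_inf' _ _ fun y hy => ?_
      have h3 := hx₀' y hy
      have h4 : (x₀.1 : ℝ) + 1 ≤ y.1 := by exact_mod_cast h3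
      have h5 : l₁ * x₀.2 ≤ 1 := by
        simp only [l₁]
        rw [div_mul_eq_mul_div, one_mul, div_le_one (by positivity)]
        linarith
      have h6 : 0 ≤ l₁ * y.2 := by positivity
      simp only [L]
      linarith
    linarith
  have e2 : 0 ≤ F l₂ - G l₂ := by
    have h1' : G l₂ ≤ L (p₀, 0) l₂ := Finset.inf'_le _ hp₀
    have h2' : L (p₀, 0) l₂ ≤ F l₂ := by
      refine Finset.le_inf' _ _ fun y hy => ?_
      have h3 : (1 : ℝ) ≤ y.2 := by exact_mod_cast h1 y hy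
      simp only [L, Nat.cast_zero, mul_zero, add_zero]
      have h4 : l₂ * 1 ≤ l₂ * y.2 := by gcongr
      have h5 : (0 : ℝ) ≤ y.1 := by positivity
      simp only [l₂] at h4 ⊢
      linarith
    linarith
  obtain ⟨l, hl, hl0⟩ : ∃ l ∈ Set.Icc l₁ l₂, F l - G l = 0 := by
    have := intermediate_value_Icc hl12 (f := fun l => F l - G l) (hF.sub hG).continuousOn
    exact this ⟨e1, e2⟩
  have hlpos : 0 < l := lt_of_lt_of_le hl₁ hl.1
  obtain ⟨x, hx, hxF⟩ := Finset.exists_mem_eq_inf' hS (fun x => L x l)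
  obtain ⟨x', hx', hxG⟩ := Finset.exists_mem_eq_inf' hS' (fun x => L x l)
  have hFx : F l = L x l := hxF
  have hGx : G l = L x' l := hxG
  have hxx' : L x l = L x' l := by rw [← hFx, ← hGx]; linarith
  -- it suffices to find a positive rational slope
  suffices H : ∃ q : ℚ, 0 < q ∧ ∃ x ∈ S, ∃ x' ∈ S', L x q = L x' q ∧ ∀ y ∈ S ∪ S', L x q ≤ L y q by
    obtain ⟨q, hq, z, hz, z', hz', hzz', hmin⟩ := H
    have hn : (0 : ℝ) < q.den := by exact_mod_cast q.pos
    have hnum : ((q.num.toNat : ℕ) : ℝ) = q.den * q := by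
      have h1 : ((q.num.toNat : ℕ) : ℤ) = q.num := Int.toNat_of_nonneg (by
        have := Rat.num_pos.mpr hq
        omega)
      have h2 : ((q.num.toNat : ℕ) : ℝ) = ((q.num : ℤ) : ℝ) := by exact_mod_cast congrArg (Int.cast (R := ℝ)) h1
      rw [h2]
      have h3 : (q.num : ℚ) = q.den * q := by
        rw [mul_comm]; exact (Rat.mul_den_eq_num q).symm
      exact_mod_cast congrArg (Rat.cast (K := ℝ)) h3
    have key : ∀ y : ℕ × ℕ, ((q.den * y.1 + q.num.toNat * y.2 : ℕ) : ℝ) = q.den * L y q := by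
      intro y
      push_cast
      rw [hnum]
      simp only [L]
      ring
    refine ⟨q.den, q.num.toNat, q.pos, ?_, z, hz, z', hz', ?_, ?_⟩
    · have := Rat.num_pos.mpr hq
      omega
    · have : ((q.den * z.1 + q.num.toNat * z.2 : ℕ) : ℝ) = ((q.den * z'.1 + q.num.toNat * z'.2 : ℕ) : ℝ) := by
        rw [key, key, hzz']
      exact_mod_cast this
    · intro y hy
      have : ((q.den * z.1 + q.num.toNat * z.2 : ℕ) : ℝ) ≤ ((q.den * y.1 + q.num.toNat * y.2 : ℕ) : ℝ) := by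
        rw [key, key]
        exact mul_le_mul_of_nonneg_left (hmin y hy) hn.le
      exact_mod_cast this
  have hmin : ∀ y ∈ S ∪ S', L x l ≤ L y l := by
    intro y hy
    rcases Finset.mem_union.mp hy with hy | hy
    · rw [← hFx]; exact Finset.inf'_le _ hy
    · rw [hxx', ← hGx]; exact Finset.inf'_le _ hy
  by_cases hrat : ∃ q : ℚ, (q : ℝ) = l
  · obtain ⟨q, hq⟩ := hrat
    refine ⟨q, ?_, x, hx, x', hx', ?_, ?_⟩
    · have : (0 : ℝ) < q := hq ▸ hlpos
      exact_mod_cast this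
    · rw [hq]; exact hxx'
    · intro y hy
      rw [hq]; exact hmin y hy
  · have hirr : ∀ y z : ℕ × ℕ, L y l = L z l → y = z := by
      intro y z hyz
      by_contra hne
      apply hrat
      by_cases h2 : y.2 = z.2
      · exfalso
        apply hne
        have : (y.1 : ℝ) = z.1 := by
          simp only [L, h2] at hyz
          linarith
        exact Prod.ext (by exact_mod_cast this) h2
      · have h2' : ((y.2 : ℝ) - z.2) ≠ 0 := by
          intro h
          apply h2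
          have : (y.2 : ℝ) = z.2 := by linarith
          exact_mod_cast this
        refine ⟨((z.1 : ℚ) - y.1) / ((y.2 : ℚ) - z.2), ?_⟩
        push_cast
        rw [div_eq_iff h2']
        simp only [L] at hyz
        linarith
    have hxeq : x = x' := hirr x x' hxx'
    have hev : ∀ᶠ r in 𝓝 l, ∀ y ∈ S ∪ S', L x r ≤ L y r := by
      rw [Filter.eventually_all_finset]
      intro y hy
      by_cases hyx : y = x
      · subst hyx; exact Eventually.of_forall fun r => le_rfl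
      · have hlt : L x l < L y l := lt_of_le_of_ne (hmin y hy) (fun h => hyx (hirr x y h).symm)
        have := (((hL x).tendsto l).eventually_lt ((hL y).tendsto l) hlt)
        exact this.mono fun r hr => hr.le
    have hev2 : ∀ᶠ r in 𝓝 l, 0 < r := lt_mem_nhds hlpos
    obtain ⟨q, hq⟩ : ∃ q : ℚ, (q : ℝ) ∈ {r | (∀ y ∈ S ∪ S', L x r ≤ L y r) ∧ 0 < r} := by
      have h1 : {r | (∀ y ∈ S ∪ S', L x r ≤ L y r) ∧ 0 < r} ∈ 𝓝 l := hev.and hev2
      obtain ⟨q, hq⟩ := Rat.denseRange_cast (𝕜 := ℝ) |>.mem_nhds h1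
      exact ⟨q, hq⟩
    refine ⟨q, ?_, x, hx, x', hx', by rw [hxeq], hq.1⟩
    exact_mod_cast hq.2

theorem exists_slope (S S' : Set (ℕ × ℕ)) (h1 : ∀ x ∈ S, 1 ≤ x.2) (h2 : ∃ p, (p, 0) ∈ S')
    (h3 : ∃ x ∈ S, ∀ y ∈ S', x.1 < y.1) :
    ∃ n m : ℕ, 0 < n ∧ 0 < m ∧ ∃ x ∈ S, ∃ x' ∈ S', n * x.1 + m * x.2 = n * x'.1 + m * x'.2 ∧
      ∀ y ∈ S ∪ S', n * x.1 + m * x.2 ≤ n * y.1 + m * y.2 := by
  classical
  have hfin : ∀ T : Set (ℕ × ℕ), {x | Minimal (· ∈ T) x}.Finite := by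
    intro T
    exact WellQuasiOrderedLE.finite_of_isAntichain (setOfPred_minimal_antichain (· ∈ T))
  have hle : ∀ T : Set (ℕ × ℕ), ∀ x ∈ T, ∃ y ∈ (hfin T).toFinset, y ≤ x := by
    intro T x hx
    obtain ⟨y, hy, hy'⟩ := exists_minimal_le_of_wellFoundedLT (· ∈ T) x hx
    exact ⟨y, by simpa using hy', hy⟩
  have hsub : ∀ T : Set (ℕ × ℕ), ∀ x ∈ (hfin T).toFinset, x ∈ T := by
    intro T x hx
    have : Minimal (· ∈ T) x := by simpa using hx
    exact this.prop
  obtain ⟨n, m, hn, hm, x, hx, x', hx', he, hmin⟩ := exists_slope_finset (hfin S).toFinset (hfin S').toFinset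
    (fun x hx => h1 x (hsub S x hx))
    (by
      obtain ⟨p, hp⟩ := h2
      obtain ⟨y, hy, hyp⟩ := hle S' _ hp
      refine ⟨y.1, ?_⟩
      have : y = (y.1, 0) := Prod.ext rfl (Nat.le_zero.mp hyp.2)
      rw [← this]; exact hy)
    (by
      obtain ⟨x, hx, hx'⟩ := h3
      obtain ⟨y, hy, hyx⟩ := hle S _ hx
      exact ⟨y, hy, fun z hz => lt_of_le_of_lt hyx.1 (hx' z (hsub S' z hz))⟩)
  refine ⟨n, m, hn, hm, x, hsub S x hx, x', hsub S' x' hx', he, ?_⟩
  intro y hy
  obtain ⟨z, hz, hzy⟩ : ∃ z ∈ (hfin S).toFinset ∪ (hfin S').toFinset, z ≤ y := by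
    rcases hy with hy | hy
    · obtain ⟨z, hz, hzy⟩ := hle S y hy
      exact ⟨z, Finset.mem_union_left _ hz, hzy⟩
    · obtain ⟨z, hz, hzy⟩ := hle S' y hy
      exact ⟨z, Finset.mem_union_right _ hz, hzy⟩
  refine (hmin z hz).trans ?_
  have := hzy.1
  have := hzy.2
  gcongr

end Groth.Agent.Sga7.H757.Comb
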