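import Groth.Agent.Ega3A.FlatResField
import Groth.Agent.Etalg.DVRExt
import Mathlib.RingTheory.Polynomial.Eisenstein.Basic
import Mathlib.RingTheory.Polynomial.UniqueFactorization
import Mathlib.RingTheory.AdicCompletion.LocalRing
import Mathlib.RingTheory.Ideal.GoingUp
import Mathlib.RingTheory.AdjoinRoot
import Mathlib.RingTheory.Filtration
import Mathlib.RingTheory.AdicCompletion.Noetherian
import Mathlib.RingTheory.Flat.FaithfullyFlat.Algebra
import Mathlib.RingTheory.Flat.FaithfullyFlat.Basic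
import Mathlib.RingTheory.LocalRing.RingHom.Basic

/-!
# Complete ramified extensions of discrete valuation rings with prescribed residue field

`exists_complete`: for a DVR `R` with uniformizer `π`, `n ≥ 2` and a field extension of the residue field there is a
complete local domain `W` over `R` with principal maximal ideal `(ϖ)`, `π = ϖ ^ n`, and the given residue field.
-/

set_option autoImplicit false
universe u
open Polynomial IsLocalRing

namespace Groth.Agent.Sga7.H757.CompleteDVR

section root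

variable {A : Type u} [CommRing A] {π : A} {n : ℕ}

theorem monic_f (hn : 2 ≤ n) : (X ^ n - C π : A[X]).Monic :=
  monic_X_pow_sub_C π (by omega)

theorem natDegree_f [Nontrivial A] : (X ^ n - C π : A[X]).natDegree = n :=
  natDegree_X_pow_sub_C

theorem irreducible_f [IsDomain A] [IsDiscreteValuationRing A] (hπ : Irreducible π) (hn : 2 ≤ n) :
    Irreducible (X ^ n - C π : A[X]) := by
  have hprime : (Ideal.span {π}).IsPrime := by
    rw [← hπ.maximalIdeal_eq]; infer_instance
  apply IsEisensteinAt.irreducible (𝓟 := Ideal.span {π}) _ hprime (monic_f hn).isPrimitive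
  · rw [natDegree_f]; omega
  · refine (monic_f hn).isEisensteinAt_of_mem_of_notMem hprime.ne_top ?_ ?_
    · intro k hk
      rw [natDegree_f] at hk
      rw [coeff_sub, coeff_X_pow, if_neg hk.ne, zero_sub, coeff_C]
      split_ifs
      · exact (Ideal.neg_mem_iff _).mpr (Ideal.mem_span_singleton_self π)
      · simp
    · rw [coeff_sub, coeff_X_pow, if_neg (by omega), zero_sub, coeff_C_zero, Ideal.neg_mem_iff,
        Ideal.span_singleton_pow, Ideal.mem_span_singleton]
      intro hd
      obtain ⟨c, hc⟩ := hd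
      have : π * (π * c - 1) = 0 := by linear_combination -hc
      rcases mul_eq_zero.mp this with h | h
      · exact hπ.ne_zero h
      · exact hπ.not_isUnit (IsUnit.of_mul_eq_one c (by linear_combination h))

theorem root_pow : (AdjoinRoot.root (X ^ n - C π : A[X])) ^ n = algebraMap A _ π := by
  have := AdjoinRoot.eval₂_root (X ^ n - C π : A[X])
  simp only [eval₂_sub, eval₂_X_pow, eval₂_C] at this
  rw [AdjoinRoot.algebraMap_eq]
  exact sub_eq_zero.mp this

theorem exists_eq_add (y : AdjoinRoot (X ^ n - C π : A[X])) :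
    ∃ (a : A) (r : AdjoinRoot (X ^ n - C π : A[X])), y = algebraMap A _ a + AdjoinRoot.root _ * r := by
  obtain ⟨p, rfl⟩ := AdjoinRoot.mk_surjective y
  refine ⟨p.coeff 0, AdjoinRoot.mk _ p.divX, ?_⟩
  conv_lhs => rw [← Polynomial.divX_mul_X_add p]
  rw [map_add, map_mul, AdjoinRoot.mk_X, AdjoinRoot.mk_C, AdjoinRoot.algebraMap_eq]
  ring

end root

/-- Adjoining an `n`-th root of the uniformizer. -/
theorem exists_ramified (R : Type u) [CommRing R] [IsDomain R] [IsDiscreteValuationRing R] (π : R)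
    (hπ : Irreducible π) (n : ℕ) (hn : 2 ≤ n) (κ : Type u) [Field κ] (σ : R →+* κ)
    (hσ : RingHom.ker σ = maximalIdeal R) :
    ∃ (R₁ : Type u) (_ : CommRing R₁) (_ : IsDomain R₁) (_ : IsLocalRing R₁) (_ : IsNoetherianRing R₁) (_ : Algebra R R₁)
      (ϖ : R₁) (σ₁ : R₁ →+* κ), maximalIdeal R₁ = Ideal.span {ϖ} ∧ ϖ ≠ 0 ∧ algebraMap R R₁ π = ϖ ^ n ∧
        RingHom.ker σ₁ = maximalIdeal R₁ ∧ σ₁.comp (algebraMap R R₁) = σ := by
  have hirr := irreducible_f hπ hn
  have hmonic := monic_f (π := π) hn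
  have hdeg : (X ^ n - C π : R[X]).natDegree = n := natDegree_f
  have hdom : IsDomain (AdjoinRoot (X ^ n - C π : R[X])) := AdjoinRoot.isDomain_of_prime hirr.prime
  have hinj : Function.Injective (algebraMap R (AdjoinRoot (X ^ n - C π : R[X]))) := by
    rw [AdjoinRoot.algebraMap_eq]
    apply AdjoinRoot.of.injective_of_degree_ne_zero
    rw [degree_eq_natDegree hmonic.ne_zero, hdeg]
    intro h
    have : n = 0 := by exact_mod_cast h
    omega
  have hfin : Module.Finite R (AdjoinRoot (X ^ n - C π : R[X])) := hmonic.finite_adjoinRoot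
  have hroot : (AdjoinRoot.root (X ^ n - C π : R[X])) ^ n = algebraMap R _ π := root_pow
  have hmemA : ∀ a ∈ maximalIdeal R, algebraMap R (AdjoinRoot (X ^ n - C π : R[X])) a ∈
      Ideal.span {AdjoinRoot.root (X ^ n - C π : R[X])} := by
    intro a ha
    rw [hπ.maximalIdeal_eq, Ideal.mem_span_singleton] at ha
    obtain ⟨c, rfl⟩ := ha
    rw [map_mul, ← hroot, Ideal.mem_span_singleton]
    exact Dvd.dvd.mul_right (dvd_pow_self _ (by omega)) _
  have hmap : (maximalIdeal R).map (algebraMap R (AdjoinRoot (X ^ n - C π : R[X]))) =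
      Ideal.span {AdjoinRoot.root (X ^ n - C π : R[X])} ^ n := by
    rw [hπ.maximalIdeal_eq, Ideal.map_span, Set.image_singleton, Ideal.span_singleton_pow, hroot]
  obtain ⟨hloc, hmax⟩ := Etalg.DVRExt.isLocal_of_totallyRamified R (AdjoinRoot (X ^ n - C π : R[X]))
    (AdjoinRoot.root _) exists_eq_add hmemA
    ⟨n, by rw [hmap, Ideal.span_singleton_pow]; exact Ideal.mem_span_singleton_self _⟩
  have hr0 : AdjoinRoot.root (X ^ n - C π : R[X]) ≠ 0 := by
    intro h0
    rw [h0, zero_pow (by omega)] at hroot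
    exact hπ.ne_zero (hinj (by rw [← hroot, map_zero]))
  have hnoeth : IsNoetherianRing (AdjoinRoot (X ^ n - C π : R[X])) := inferInstance
  have hev : (X ^ n - C π : R[X]).eval₂ σ 0 = 0 := by
    have : π ∈ RingHom.ker σ := by
      rw [hσ, hπ.maximalIdeal_eq]; exact Ideal.mem_span_singleton_self π
    rw [eval₂_sub, eval₂_X_pow, eval₂_C, zero_pow (by omega), zero_sub, neg_eq_zero]
    exact this
  refine ⟨AdjoinRoot (X ^ n - C π : R[X]), inferInstance, hdom, hloc, hnoeth, inferInstance, AdjoinRoot.root _,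
    AdjoinRoot.lift σ 0 hev, hmax, hr0, hroot.symm, ?_, ?_⟩
  · symm
    refine (IsLocalRing.maximalIdeal.isMaximal _).eq_of_le (RingHom.ker_ne_top _) ?_
    rw [hmax, Ideal.span_singleton_le_iff_mem, RingHom.mem_ker, AdjoinRoot.lift_root]
  · ext r
    rw [RingHom.comp_apply, AdjoinRoot.algebraMap_eq, AdjoinRoot.lift_of]

/-- A local ring with principal maximal ideal `(ϖ)`, separated, `ϖ` not nilpotent, is a domain. -/
theorem isDomain_of_principal (W : Type u) [CommRing W] [IsLocalRing W] (ϖ : W)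
    (h : maximalIdeal W = Ideal.span {ϖ}) [IsHausdorff (maximalIdeal W) W] (hn : ¬ IsNilpotent ϖ) :
    IsDomain W := by
  have hfac : ∀ x : W, x ≠ 0 → ∃ (k : ℕ) (u : W), IsUnit u ∧ x = ϖ ^ k * u := by
    intro x hx
    have hex : ∃ k : ℕ, x ∉ (maximalIdeal W) ^ k := by
      by_contra hcon
      push Not at hcon
      refine hx (IsHausdorff.haus (I := maximalIdeal W) inferInstance x fun k => ?_)
      rw [SModEq.zero, smul_eq_mul, Ideal.mul_top]
      exact hcon k
    classical
    let k := Nat.find hex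
    have hk : x ∉ (maximalIdeal W) ^ k := Nat.find_spec hex
    have hk0 : k ≠ 0 := by
      intro h0
      rw [h0, pow_zero, Ideal.one_eq_top] at hk
      exact hk trivial
    obtain ⟨l, hl⟩ := Nat.exists_eq_succ_of_ne_zero hk0
    have hl' : x ∈ (maximalIdeal W) ^ l := by
      by_contra hcon
      exact Nat.find_min hex (m := l) (by change l < k; omega) hcon
    rw [h, Ideal.span_singleton_pow, Ideal.mem_span_singleton] at hl'
    obtain ⟨u, rfl⟩ := hl'
    refine ⟨l, u, ?_, rfl⟩
    by_contra hu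
    have hu' : u ∈ maximalIdeal W := hu
    rw [h, Ideal.mem_span_singleton] at hu'
    obtain ⟨v, rfl⟩ := hu'
    apply hk
    rw [h, Ideal.span_singleton_pow, Ideal.mem_span_singleton, hl]
    exact ⟨v, by rw [pow_succ]; ring⟩
  have : NoZeroDivisors W := by
    refine ⟨fun {a b} hab => ?_⟩
    by_contra hcon
    push Not at hcon
    obtain ⟨k, u, hu, rfl⟩ := hfac a hcon.1
    obtain ⟨l, v, hv, rfl⟩ := hfac b hcon.2
    apply hn
    refine ⟨k + l, ?_⟩
    have h1 : ϖ ^ (k + l) * (u * v) = 0 := by rw [← hab, pow_add]; ring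
    exact (IsUnit.mul_left_eq_zero (hu.mul hv)).mp h1
  exact NoZeroDivisors.to_isDomain W

/-- Completion of a Noetherian local ring with principal maximal ideal. -/
theorem exists_completion (B : Type u) [CommRing B] [IsLocalRing B] [IsNoetherianRing B] (ϖ : B)
    (h : maximalIdeal B = Ideal.span {ϖ}) (hn : ¬ IsNilpotent ϖ) (κ : Type u) [Field κ] (τ : B →+* κ)
    (hτ : RingHom.ker τ = maximalIdeal B) (hτs : Function.Surjective τ) :
    ∃ (W : Type u) (_ : CommRing W) (_ : IsDomain W) (_ : IsLocalRing W) (_ : Algebra B W) (ρ : W →+* κ),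
      IsAdicComplete (Ideal.span {algebraMap B W ϖ}) W ∧ maximalIdeal W = Ideal.span {algebraMap B W ϖ} ∧
      Function.Injective (algebraMap B W) ∧
      RingHom.ker ρ = maximalIdeal W ∧ Function.Surjective ρ ∧ ρ.comp (algebraMap B W) = τ := by
  let W := AdicCompletion (maximalIdeal B) B
  have hfg : (maximalIdeal B).FG := (isNoetherianRing_iff_ideal_fg B).mp inferInstance _
  have hloc : IsLocalRing W := AdicCompletion.isLocalRing_of_fg hfg
  have hmax0 : maximalIdeal W = (maximalIdeal B).map (algebraMap B W) :=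
    AdicCompletion.maximalIdeal_eq_map_of_fg hfg
  have hmax : maximalIdeal W = Ideal.span {algebraMap B W ϖ} :=
    hmax0.trans ((congrArg (Ideal.map (algebraMap B W)) h).trans
      (by rw [Ideal.map_span, Set.image_singleton]))
  have hcomp : IsAdicComplete (maximalIdeal W) W := by
    rw [hmax0]; exact AdicCompletion.isAdicComplete_self _ hfg
  have hinj : Function.Injective (algebraMap B W) := by
    intro x y hxy
    have := AdicCompletion.of_injective (maximalIdeal B) B
    exact this hxy
  have hdom : IsDomain W := by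
    refine isDomain_of_principal W (algebraMap B W ϖ) hmax ?_
    rintro ⟨k, hk⟩
    apply hn
    refine ⟨k, hinj ?_⟩
    rw [map_pow, hk, map_zero]
  let ρ₀ : W →+* B ⧸ maximalIdeal B := (AdicCompletion.evalOneₐ (maximalIdeal B)).toRingHom
  let τ₀ : B ⧸ maximalIdeal B →+* κ := Ideal.Quotient.lift _ τ (fun a ha => by rwa [← hτ] at ha)
  let ρ : W →+* κ := τ₀.comp ρ₀
  have hρ : ρ.comp (algebraMap B W) = τ := by
    ext b
    change τ₀ (AdicCompletion.evalOneₐ (maximalIdeal B) (algebraMap B W b)) = _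
    have h1 : AdicCompletion.evalOneₐ (maximalIdeal B) (algebraMap B W b) = Ideal.Quotient.mk _ b := by
      rw [AlgHom.commutes]; rfl
    rw [h1]
    rfl
  refine ⟨W, inferInstance, hdom, hloc, inferInstance, ρ, ?_, hmax, hinj, ?_, ?_, hρ⟩
  · rw [← hmax]; exact hcomp
  · symm
    refine (IsLocalRing.maximalIdeal.isMaximal _).eq_of_le (RingHom.ker_ne_top _) ?_
    rw [hmax, Ideal.span_singleton_le_iff_mem, RingHom.mem_ker]
    have := DFunLike.congr_fun hρ ϖ
    rw [RingHom.comp_apply] at this
    rw [this, ← RingHom.mem_ker, hτ, h]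
    exact Ideal.mem_span_singleton_self ϖ
  · intro x
    obtain ⟨b, hb⟩ := hτs x
    exact ⟨algebraMap B W b, by rw [← RingHom.comp_apply, hρ, hb]⟩

theorem exists_complete (R : Type u) [CommRing R] [IsDomain R] [IsDiscreteValuationRing R] (π : R)
    (hπ : Irreducible π) (n : ℕ) (hn : 2 ≤ n) (κ : Type u) [Field κ] (σ : R →+* κ)
    (hσ : RingHom.ker σ = maximalIdeal R) :
    ∃ (W : Type u) (_ : CommRing W) (_ : IsDomain W) (_ : IsLocalRing W) (_ : Algebra R W)
      (ϖ : W) (ρ : W →+* κ), IsAdicComplete (Ideal.span {ϖ}) W ∧ maximalIdeal W = Ideal.span {ϖ} ∧ ϖ ≠ 0 ∧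
        algebraMap R W π = ϖ ^ n ∧ Function.Injective (algebraMap R W) ∧
        RingHom.ker ρ = maximalIdeal W ∧ Function.Surjective ρ ∧ ρ.comp (algebraMap R W) = σ := by
  obtain ⟨R₁, _, _, _, _, _, ϖ₁, σ₁, h1, h2, h3, h4, h5⟩ := exists_ramified R π hπ n hn κ σ hσ
  obtain ⟨B, _, _, _, τ, g1, g2, g3, g4, g5, g6, g7⟩ :=
    Groth.Agent.Ega3A.FlatResField.exists_flat_local_ext σ₁ h4
  have : IsNoetherianRing B := g3 inferInstance
  have hff : Module.FaithfullyFlat R₁ B := Module.FaithfullyFlat.of_flat_of_isLocalHom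
  have hinj : Function.Injective (algebraMap R₁ B) := FaithfulSMul.algebraMap_injective R₁ B
  have hmaxB : maximalIdeal B = Ideal.span {algebraMap R₁ B ϖ₁} := by
    rw [← g4, h1, Ideal.map_span, Set.image_singleton]
  have hnil : ¬ IsNilpotent (algebraMap R₁ B ϖ₁) := by
    rintro ⟨k, hk⟩
    rw [← map_pow] at hk
    exact h2 (IsNilpotent.eq_zero ⟨k, hinj (by rw [hk, map_zero])⟩)
  obtain ⟨W, _, _, _, _, ρ, e1, e2, e3, e4, e5, e6⟩ := exists_completion B _ hmaxB hnil κ τ g5 g7
  let φ : R →+* W := ((algebraMap B W).comp (algebraMap R₁ B)).comp (algebraMap R R₁)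
  have hinjφ : Function.Injective φ := by
    have h0 : RingHom.ker φ = ⊥ := by
      rw [eq_bot_iff]
      intro x hx
      rw [Ideal.mem_bot]
      by_contra hx0
      obtain ⟨k, u, rfl⟩ := IsDiscreteValuationRing.eq_unit_mul_pow_irreducible hx0 hπ
      rw [RingHom.mem_ker, map_mul] at hx
      have hu : IsUnit (φ u) := u.isUnit.map φ
      have h6 : φ (π ^ k) = 0 := (hu.mul_right_eq_zero).mp hx
      have h7 : φ (π ^ k) = algebraMap B W (algebraMap R₁ B (ϖ₁ ^ (n * k))) := by
        change algebraMap B W (algebraMap R₁ B (algebraMap R R₁ (π ^ k))) = _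
        rw [map_pow, h3, pow_mul]
      rw [h7] at h6
      have h8 : ϖ₁ ^ (n * k) = 0 := hinj (e3 (by rw [h6, map_zero, map_zero]))
      exact h2 (IsNilpotent.eq_zero ⟨n * k, h8⟩)
    exact (RingHom.injective_iff_ker_eq_bot φ).mpr h0
  refine ⟨W, inferInstance, inferInstance, inferInstance, φ.toAlgebra, algebraMap B W (algebraMap R₁ B ϖ₁), ρ,
    e1, e2, ?_, ?_, hinjφ, e4, e5, ?_⟩
  · intro h0
    exact h2 (hinj (e3 (by rw [h0, map_zero, map_zero])))
  · change φ π = _
    simp only [φ, RingHom.comp_apply, h3, map_pow]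
  · change ρ.comp φ = σ
    rw [show φ = ((algebraMap B W).comp (algebraMap R₁ B)).comp (algebraMap R R₁) from rfl,
      ← RingHom.comp_assoc, ← RingHom.comp_assoc, e6, g6, h5]

end Groth.Agent.Sga7.H757.CompleteDVR
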