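import Groth.Agent.Sga7.H757.FPts
import Mathlib.Algebra.TrivSqZeroExt.Ideal

/-!
# First order additivity of the group law near the unit section
-/

set_option autoImplicit false
universe u
open CategoryTheory CategoryTheory.Limits AlgebraicGeometry MonObj IsLocalRing TrivSqZeroExt

namespace Groth.Agent.Sga7.H757.FAdd

open Groth.Agent.Sga7.H757.FC Groth.Agent.Sga7.H757.FPts

theorem isAdicComplete_of_pow_eq_bot {C : Type u} [CommRing C] (J : Ideal C) (n : ℕ) (h : J ^ n = ⊥) :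
    IsAdicComplete J C where
  haus' x hx := by
    have := hx n
    rw [SModEq.zero, smul_eq_mul, Ideal.mul_top, h, Ideal.mem_bot] at this
    exact this
  prec' f hf := by
    refine ⟨f n, fun m => ?_⟩
    rcases le_total m n with hmn | hmn
    · exact hf hmn
    · have h1 := hf hmn
      rw [SModEq.sub_mem, smul_eq_mul, Ideal.mul_top, h, Ideal.mem_bot, sub_eq_zero] at h1
      rw [h1]

section tsze

variable (R : Type u) [CommRing R] [IsLocalRing R] (M : Type u) [AddCommGroup M] [Module R M] [Module Rᵐᵒᵖ M]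
  [IsCentralScalar R M]

omit [IsLocalRing R] in
theorem isLocalHom_fst : IsLocalHom (fstHom R R M).toRingHom := by
  refine ⟨fun x hx => ?_⟩
  exact isUnit_iff_isUnit_fst.mpr hx

theorem isLocalRing_tsze : IsLocalRing (TrivSqZeroExt R M) := by
  have := isLocalHom_fst R M
  exact RingHom.domain_isLocalRing (fstHom R R M).toRingHom

omit [IsLocalRing R] in
theorem isLocalHom_inl : IsLocalHom (algebraMap R (TrivSqZeroExt R M)) := by
  refine ⟨fun x hx => ?_⟩
  have := hx.map (fstHom R R M)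
  simpa using this

/-- the ideal of square zero -/
noncomputable def J₂ : Ideal (TrivSqZeroExt R M) := RingHom.ker (fstHom R R M).toRingHom

omit [IsLocalRing R] in
variable {R M} in
theorem mem_J₂ {x : TrivSqZeroExt R M} : x ∈ J₂ R M ↔ x.fst = 0 := Iff.rfl

omit [IsLocalRing R] in
variable {R M} in
theorem eq_inr_of_mem {x : TrivSqZeroExt R M} (hx : x ∈ J₂ R M) : x = inr x.snd := by
  ext
  · exact mem_J₂.mp hx
  · rfl

omit [IsLocalRing R] in
theorem J₂_sq : J₂ R M ^ 2 = ⊥ := by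
  rw [eq_bot_iff, pow_two, Ideal.mul_le]
  intro x hx y hy
  rw [eq_inr_of_mem hx, eq_inr_of_mem hy, inr_mul_inr]
  exact Ideal.zero_mem _

theorem J₂_le [IsLocalRing (TrivSqZeroExt R M)] : J₂ R M ≤ maximalIdeal (TrivSqZeroExt R M) := by
  refine IsLocalRing.le_maximalIdeal ?_
  exact RingHom.ker_ne_top _

instance : IsAdicComplete (J₂ R M) (TrivSqZeroExt R M) := isAdicComplete_of_pow_eq_bot _ 2 (J₂_sq R M)

end tsze

variable {R : Type u} [CommRing R] [IsLocalRing R] {N : Over (Spec (CommRingCat.of R))} [GrpObj N]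
  {A : Type u} [CommRing A] [IsLocalRing A] [Algebra R A] (B : Nbhd R N A) {d : ℕ}
  {φ : MvPolynomial (Fin d) R →ₐ[R] A} (hφ : IsChart φ B.ε)

/-- the module of pairs -/
abbrev M₁ (R : Type u) (d : ℕ) : Type u := Fin d → R
abbrev M₂ (R : Type u) (d : ℕ) : Type u := (Fin d → R) × (Fin d → R)

include hφ in
theorem exists_universal : ∃ χX χY χF : A →ₐ[R] TrivSqZeroExt R (M₂ R d),
    (∀ i, χX (φ (.X i)) = inr (Pi.single i 1, 0)) ∧ (∀ i, χY (φ (.X i)) = inr (0, Pi.single i 1)) ∧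
    (∀ i, χF (φ (.X i)) = inr (Pi.single i 1, Pi.single i 1)) ∧
    (∀ a, χX a - algebraMap R _ (B.ε a) ∈ J₂ R (M₂ R d)) ∧
    (∀ a, χY a - algebraMap R _ (B.ε a) ∈ J₂ R (M₂ R d)) ∧
    specM χF ≫ B.ψ = (specM χX ≫ B.ψ) * (specM χY ≫ B.ψ) := by
  have hl2 := isLocalRing_tsze R (M₂ R d)
  have hl2' := isLocalHom_inl R (M₂ R d)
  obtain ⟨χX, hX1, hX2⟩ := exists_pt hφ (J₂ R (M₂ R d)) (fun i => inr (Pi.single i 1, 0)) (fun i => mem_J₂.mpr (fst_inr _ _))
  obtain ⟨χY, hY1, hY2⟩ := exists_pt hφ (J₂ R (M₂ R d)) (fun i => inr (0, Pi.single i 1)) (fun i => mem_J₂.mpr (fst_inr _ _))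
  obtain ⟨χF, hF1, hF2⟩ := B.exists_prod (J₂ R (M₂ R d)) (J₂_le R (M₂ R d)) χX χY hX2 hY2
  -- projections
  let p1 : TrivSqZeroExt R (M₂ R d) →ₐ[R] TrivSqZeroExt R (M₁ R d) := TrivSqZeroExt.map (LinearMap.fst R _ _)
  let p2 : TrivSqZeroExt R (M₂ R d) →ₐ[R] TrivSqZeroExt R (M₁ R d) := TrivSqZeroExt.map (LinearMap.snd R _ _)
  have hmem : ∀ (p : TrivSqZeroExt R (M₂ R d) →ₐ[R] TrivSqZeroExt R (M₁ R d)),
      (∀ x ∈ J₂ R (M₂ R d), p x ∈ J₂ R (M₁ R d)) → ∀ χ : A →ₐ[R] TrivSqZeroExt R (M₂ R d),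
      (∀ a, χ a - algebraMap R _ (B.ε a) ∈ J₂ R (M₂ R d)) →
      ∀ a, (p.comp χ) a - algebraMap R _ (B.ε a) ∈ J₂ R (M₁ R d) := by
    intro p hp χ hχ a
    have := hp _ (hχ a)
    rwa [map_sub, AlgHom.commutes] at this
  have hp1J : ∀ x ∈ J₂ R (M₂ R d), p1 x ∈ J₂ R (M₁ R d) := by
    intro x hx
    rw [eq_inr_of_mem hx]
    exact mem_J₂.mpr (by simp [p1])
  have hp2J : ∀ x ∈ J₂ R (M₂ R d), p2 x ∈ J₂ R (M₁ R d) := by
    intro x hx
    rw [eq_inr_of_mem hx]
    exact mem_J₂.mpr (by simp [p2])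
  have hofId : ∀ a, ((Algebra.ofId R (TrivSqZeroExt R (M₁ R d))).comp B.ε) a - algebraMap R _ (B.ε a) ∈ J₂ R (M₁ R d) := by
    intro a
    rw [AlgHom.comp_apply, Algebra.ofId_apply, sub_self]
    exact Ideal.zero_mem _
  have h1Y : p1.comp χY = (Algebra.ofId R _).comp B.ε := by
    refine pt_unique hφ (J₂ R (M₁ R d)) _ _ (fun i => ?_) (hmem p1 hp1J χY hY2) hofId
    rw [AlgHom.comp_apply, hY1, AlgHom.comp_apply, hφ.eps, map_zero]
    simp [p1]
  have h2X : p2.comp χX = (Algebra.ofId R _).comp B.ε := by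
    refine pt_unique hφ (J₂ R (M₁ R d)) _ _ (fun i => ?_) (hmem p2 hp2J χX hX2) hofId
    rw [AlgHom.comp_apply, hX1, AlgHom.comp_apply, hφ.eps, map_zero]
    simp [p2]
  have h1F : p1.comp χF = p1.comp χX := by
    apply B.inj
    rw [specM_comp, Category.assoc, hF1, MonObj.comp_mul, ← Category.assoc, ← Category.assoc, ← specM_comp,
      ← specM_comp, h1Y, B.const, _root_.mul_one]
  have h2F : p2.comp χF = p2.comp χY := by
    apply B.inj
    rw [specM_comp, Category.assoc, hF1, MonObj.comp_mul, ← Category.assoc, ← Category.assoc, ← specM_comp,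
      ← specM_comp, h2X, B.const, _root_.one_mul]
  refine ⟨χX, χY, χF, hX1, hY1, fun i => ?_, hX2, hY2, hF1⟩
  have h3 : χF (φ (.X i)) ∈ J₂ R (M₂ R d) := by
    have := hF2 (φ (.X i))
    rwa [hφ.eps, map_zero, sub_zero] at this
  have h4 := DFunLike.congr_fun h1F (φ (.X i))
  have h5 := DFunLike.congr_fun h2F (φ (.X i))
  rw [AlgHom.comp_apply, AlgHom.comp_apply] at h4 h5
  rw [hX1] at h4
  rw [hY1] at h5
  rw [eq_inr_of_mem h3] at h4 h5 ⊢
  simp only [p1, p2, TrivSqZeroExt.map_inr, LinearMap.fst_apply, LinearMap.snd_apply] at h4 h5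
  have h6 := TrivSqZeroExt.inr_injective h4
  have h7 := TrivSqZeroExt.inr_injective h5
  congr 1
  exact Prod.ext h6 h7

include hφ in
/-- The group law is additive to first order. -/
theorem exists_prod_add {C : Type u} [CommRing C] [IsLocalRing C] [Algebra R C] [IsLocalHom (algebraMap R C)]
    (J : Ideal C) (hJ : J ≤ maximalIdeal C) (χ χ' : A →ₐ[R] C)
    (h : ∀ a, χ a - algebraMap R C (B.ε a) ∈ J) (h' : ∀ a, χ' a - algebraMap R C (B.ε a) ∈ J) :
    ∃ χ'' : A →ₐ[R] C, specM χ'' ≫ B.ψ = (specM χ ≫ B.ψ) * (specM χ' ≫ B.ψ) ∧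
      (∀ a, χ'' a - algebraMap R C (B.ε a) ∈ J) ∧
      ∀ i, χ'' (φ (.X i)) - (χ (φ (.X i)) + χ' (φ (.X i))) ∈ J ^ 2 := by
  obtain ⟨χ'', h1, h2⟩ := B.exists_prod J hJ χ χ' h h'
  refine ⟨χ'', h1, h2, fun i => ?_⟩
  obtain ⟨χX, χY, χF, hX1, hY1, hFi, hX2, hY2, hF⟩ := exists_universal B hφ
  let q : C →ₐ[R] C ⧸ J ^ 2 := Ideal.Quotient.mkₐ R (J ^ 2)
  let Jb : Ideal (C ⧸ J ^ 2) := J.map q
  have hJb : Jb ^ 2 = ⊥ := by
    rw [← Ideal.map_pow]
    exact Ideal.map_quotient_self _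
  have := isAdicComplete_of_pow_eq_bot Jb 2 hJb
  have hc : ∀ i, q (χ (φ (.X i))) ∈ Jb := by
    intro i
    apply Ideal.mem_map_of_mem
    have := h (φ (.X i))
    rwa [hφ.eps, map_zero, sub_zero] at this
  have hc' : ∀ i, q (χ' (φ (.X i))) ∈ Jb := by
    intro i
    apply Ideal.mem_map_of_mem
    have := h' (φ (.X i))
    rwa [hφ.eps, map_zero, sub_zero] at this
  let l1 : (Fin d → R) →ₗ[R] C ⧸ J ^ 2 := Fintype.linearCombination R (fun i => q (χ (φ (.X i))))
  let l2 : (Fin d → R) →ₗ[R] C ⧸ J ^ 2 := Fintype.linearCombination R (fun i => q (χ' (φ (.X i))))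
  let l : M₂ R d →ₗ[R] C ⧸ J ^ 2 := l1.coprod l2
  have hlJ : ∀ m, l m ∈ Jb := by
    intro m
    simp only [l, LinearMap.coprod_apply, l1, l2, Fintype.linearCombination_apply]
    refine add_mem (Ideal.sum_mem _ fun i _ => ?_) (Ideal.sum_mem _ fun i _ => ?_)
    · rw [Algebra.smul_def]
      exact Ideal.mul_mem_left _ _ (hc i)
    · rw [Algebra.smul_def]
      exact Ideal.mul_mem_left _ _ (hc' i)
  let g : TrivSqZeroExt R (M₂ R d) →ₐ[R] C ⧸ J ^ 2 := liftEquivOfComm ⟨l, fun x y => by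
    have h0 : l x * l y ∈ Jb ^ 2 := by
      rw [pow_two Jb]; exact Ideal.mul_mem_mul (hlJ x) (hlJ y)
    rw [hJb] at h0
    exact h0⟩
  have hginr : ∀ m, g (inr m) = l m := fun m => by
    simp only [g, liftEquivOfComm_apply]
    exact lift_apply_inr _ _ _ _ _ _
  have hgJ : ∀ x ∈ J₂ R (M₂ R d), g x ∈ Jb := by
    intro x hx
    rw [eq_inr_of_mem hx, hginr]
    exact hlJ _
  have hgχ : ∀ ξ : A →ₐ[R] TrivSqZeroExt R (M₂ R d), (∀ a, ξ a - algebraMap R _ (B.ε a) ∈ J₂ R (M₂ R d)) →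
      ∀ a, (g.comp ξ) a - algebraMap R _ (B.ε a) ∈ Jb := by
    intro ξ hξ a
    have := hgJ _ (hξ a)
    rwa [map_sub, AlgHom.commutes] at this
  have hqχ : ∀ ξ : A →ₐ[R] C, (∀ a, ξ a - algebraMap R C (B.ε a) ∈ J) →
      ∀ a, (q.comp ξ) a - algebraMap R _ (B.ε a) ∈ Jb := by
    intro ξ hξ a
    have := Ideal.mem_map_of_mem q (hξ a)
    rwa [map_sub, AlgHom.commutes] at this
  have eX : g.comp χX = q.comp χ := by
    refine pt_unique hφ Jb _ _ (fun i => ?_) (hgχ χX hX2) (hqχ χ h)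
    rw [AlgHom.comp_apply, hX1, hginr, AlgHom.comp_apply]
    simp only [l, LinearMap.coprod_apply, map_zero, add_zero, l1]
    rw [Fintype.linearCombination_apply_single, one_smul]
  have eY : g.comp χY = q.comp χ' := by
    refine pt_unique hφ Jb _ _ (fun i => ?_) (hgχ χY hY2) (hqχ χ' h')
    rw [AlgHom.comp_apply, hY1, hginr, AlgHom.comp_apply]
    simp only [l, LinearMap.coprod_apply, map_zero, zero_add, l2]
    rw [Fintype.linearCombination_apply_single, one_smul]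
  have eF : g.comp χF = q.comp χ'' := by
    apply B.inj
    rw [specM_comp, Category.assoc, hF, MonObj.comp_mul, ← Category.assoc, ← Category.assoc, ← specM_comp,
      ← specM_comp, eX, eY, specM_comp, specM_comp, Category.assoc, Category.assoc, ← MonObj.comp_mul, ← h1,
      ← Category.assoc, ← specM_comp]
  have e1 := DFunLike.congr_fun eF (φ (.X i))
  rw [AlgHom.comp_apply, hFi, hginr] at e1
  simp only [l, LinearMap.coprod_apply, l1, l2] at e1
  rw [Fintype.linearCombination_apply_single, Fintype.linearCombination_apply_single, one_smul, one_smul,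
    ← map_add] at e1
  have e2 : (χ (φ (.X i)) + χ' (φ (.X i))) - χ'' (φ (.X i)) ∈ J ^ 2 := Ideal.Quotient.eq.mp e1
  have e3 := neg_mem e2
  rwa [neg_sub] at e3

end Groth.Agent.Sga7.H757.FAdd
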