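import Groth.Agent.UnramA.SmoothCompletion
import Groth.Agent.Ega41.PowComplete
import Groth.Agent.Ega41.PowEval
import Mathlib.RingTheory.Smooth.AdicCompletion
import Mathlib.RingTheory.Unramified.Basic

/-!
# Formal coordinates along a section

`IsChart φ ε`: `φ : R[X] → A` is formally étale, `ε : A → R` is a retraction with `ε (φ X_i) = 0`.
-/

set_option autoImplicit false
universe u v
open IsLocalRing MvPowerSeries

namespace Groth.Agent.Sga7.H757.FC

variable {R A : Type u} [CommRing R] [CommRing A] [Algebra R A] {σ : Type}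

/-- `φ` gives étale coordinates vanishing along the section `ε`. -/
structure IsChart (φ : MvPolynomial σ R →ₐ[R] A) (ε : A →ₐ[R] R) : Prop where
  etale : φ.toRingHom.FormallyEtale
  eps : ∀ i, ε (φ (.X i)) = 0

section points

variable {φ : MvPolynomial σ R →ₐ[R] A} {ε : A →ₐ[R] R} (h : IsChart φ ε)
  {C : Type v} [CommRing C] [Algebra R C] (J : Ideal C)

include h in
theorem eps_comp : ε.comp φ = MvPolynomial.aeval (fun _ => (0 : R)) := by
  ext i
  simp [h.eps]

include h in
theorem exists_pt [IsAdicComplete J C] (c : σ → C) (hc : ∀ i, c i ∈ J) :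
    ∃ χ : A →ₐ[R] C, (∀ i, χ (φ (.X i)) = c i) ∧ ∀ a, χ a - algebraMap R C (ε a) ∈ J := by
  let P := MvPolynomial σ R
  let _ : Algebra P A := φ.toRingHom.toAlgebra
  have hs : Algebra.FormallySmooth P A := by
    have : Algebra.FormallyEtale P A := h.etale
    infer_instance
  let _ : Algebra P C := (MvPolynomial.aeval c : P →ₐ[R] C).toRingHom.toAlgebra
  have hcomm : ∀ p : P, Ideal.Quotient.mk J (algebraMap R C (ε (φ p))) =
      Ideal.Quotient.mk J (MvPolynomial.aeval c p) := by
    intro p
    have : ((Ideal.Quotient.mkₐ R J).comp ((Algebra.ofId R C).comp (ε.comp φ))) =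
        (Ideal.Quotient.mkₐ R J).comp (MvPolynomial.aeval c) := by
      rw [eps_comp h]
      ext i
      simp only [AlgHom.comp_apply, MvPolynomial.aeval_X, map_zero]
      exact (Ideal.Quotient.eq_zero_iff_mem.mpr (hc i)).symm
    exact DFunLike.congr_fun this p
  let f : A →ₐ[P] C ⧸ J :=
    { toRingHom := (Ideal.Quotient.mk J).comp ((algebraMap R C).comp ε.toRingHom)
      commutes' := fun p => hcomm p }
  obtain ⟨g, hg⟩ := Algebra.FormallySmooth.exists_mkₐ_comp_eq_of_isAdicComplete (I := J) f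
  have hgφ : ∀ p : P, g (φ p) = MvPolynomial.aeval c p := fun p => g.commutes p
  refine ⟨{ toRingHom := g.toRingHom, commutes' := fun r => ?_ }, fun i => ?_, fun a => ?_⟩
  · change g (algebraMap R A r) = _
    rw [← φ.commutes, hgφ, AlgHom.commutes]
  · change g (φ (.X i)) = _
    rw [hgφ, MvPolynomial.aeval_X]
  · rw [← Ideal.Quotient.eq]
    exact DFunLike.congr_fun hg a

include h in
theorem pt_unique [IsHausdorff J C] (χ χ' : A →ₐ[R] C) (h1 : ∀ i, χ (φ (.X i)) = χ' (φ (.X i)))
    (h2 : ∀ a, χ a - algebraMap R C (ε a) ∈ J) (h3 : ∀ a, χ' a - algebraMap R C (ε a) ∈ J) : χ = χ' := by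
  let P := MvPolynomial σ R
  let _ : Algebra P A := φ.toRingHom.toAlgebra
  have hu : Algebra.FormallyUnramified P A := by
    have : Algebra.FormallyEtale P A := h.etale
    infer_instance
  let _ : Algebra P C := (χ.comp φ).toRingHom.toAlgebra
  have he : χ.comp φ = χ'.comp φ := by
    ext i
    exact h1 i
  let g : A →ₐ[P] C := { toRingHom := χ.toRingHom, commutes' := fun p => rfl }
  let g' : A →ₐ[P] C := { toRingHom := χ'.toRingHom, commutes' := fun p => (DFunLike.congr_fun he p).symm }
  have hinf : ⨅ i, J ^ i = ⊥ := by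
    rw [eq_bot_iff]
    intro x hx
    rw [Ideal.mem_bot]
    refine IsHausdorff.haus (I := J) inferInstance x fun n => ?_
    rw [SModEq.zero, smul_eq_mul, Ideal.mul_top]
    exact (Submodule.mem_iInf _).mp hx n
  have key : g = g' := by
    refine Algebra.FormallyUnramified.ext_of_iInf J hinf fun a => ?_
    rw [Ideal.Quotient.eq]
    have := sub_mem (h2 a) (h3 a)
    rw [sub_sub_sub_cancel_right] at this
    exact this
  ext a
  exact DFunLike.congr_fun key a

end points

section series

variable [Finite σ] {φ : MvPolynomial σ R →ₐ[R] A} {ε : A →ₐ[R] R} (h : IsChart φ ε)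

/-- the Taylor expansion -/
def IsTaylor (φ : MvPolynomial σ R →ₐ[R] A) (ε : A →ₐ[R] R) (ι : A →ₐ[R] MvPowerSeries σ R) : Prop :=
  (∀ i, ι (φ (.X i)) = X i) ∧ ∀ a, constantCoeff (ι a) = ε a

include h in
theorem exists_taylor : ∃ ι, IsTaylor φ ε ι := by
  have := Groth.Agent.Ega41.PowComplete.isAdicComplete_span_X (R := R) (σ := σ)
  obtain ⟨ι, h1, h2⟩ := exists_pt h (Ideal.span (Set.range (X : σ → MvPowerSeries σ R)))
    (fun i => X i) (fun i => Ideal.subset_span ⟨i, rfl⟩)
  refine ⟨ι, h1, fun a => ?_⟩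
  have h3 := h2 a
  rw [Groth.Agent.Ega41.PowComplete.mem_span_X_iff, map_sub, sub_eq_zero] at h3
  rw [h3]
  simp [MvPowerSeries.algebraMap_apply]

omit [Finite σ] in
theorem IsTaylor.apply_poly {ι : A →ₐ[R] MvPowerSeries σ R} (hι : IsTaylor φ ε ι) (p : MvPolynomial σ R) :
    ι (φ p) = (p : MvPowerSeries σ R) := by
  have : ι.comp φ = MvPolynomial.coeToMvPowerSeries.algHom R := by
    ext1 i
    simp [hι.1]
  have h2 := DFunLike.congr_fun this p
  simpa using h2

include h in
/-- evaluation of the Taylor expansion -/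
theorem powEval_taylor {ι : A →ₐ[R] MvPowerSeries σ R} (hι : IsTaylor φ ε ι) {S : Type v} [CommRing S]
    [Algebra R S] (J : Ideal S) [IsAdicComplete J S] (c : σ → S) (hc : ∀ i, c i ∈ J) (χ : A →ₐ[R] S)
    (h1 : ∀ i, χ (φ (.X i)) = c i) (h2 : ∀ a, χ a - algebraMap R S (ε a) ∈ J) (a : A) :
    χ a = Groth.Agent.Ega41.PowEval.powEval (R := R) J c hc (ι a) := by
  have : χ = (Groth.Agent.Ega41.PowEval.powEval (R := R) J c hc).comp ι := by
    refine pt_unique h J _ _ (fun i => ?_) h2 (fun a => ?_)
    · rw [h1, AlgHom.comp_apply, hι.1, Groth.Agent.Ega41.PowEval.powEval_X]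
    · rw [AlgHom.comp_apply]
      have h4 : ι a - C (ε a) ∈ Ideal.span (Set.range (X : σ → MvPowerSeries σ R)) := by
        rw [Groth.Agent.Ega41.PowComplete.mem_span_X_iff, map_sub, hι.2, constantCoeff_C, sub_self]
      have h5 : Ideal.span (Set.range (X : σ → MvPowerSeries σ R)) ≤
          J.comap (Groth.Agent.Ega41.PowEval.powEval (R := R) J c hc) := by
        rw [Ideal.span_le]
        rintro _ ⟨i, rfl⟩
        simp only [SetLike.mem_coe, Ideal.mem_comap]
        rw [Groth.Agent.Ega41.PowEval.powEval_X]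
        exact hc i
      have h6 := h5 h4
      rw [Ideal.mem_comap, map_sub, Groth.Agent.Ega41.PowEval.powEval_C] at h6
      exact h6
  exact DFunLike.congr_fun this a

end series

end Groth.Agent.Sga7.H757.FC
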