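import Groth.Agent.Sga7.H757.FC
import Mathlib.RingTheory.AdicCompletion.Noetherian

/-!
# Existence of charts, divisibility via the Taylor expansion
-/

set_option autoImplicit false
universe u v
open IsLocalRing MvPowerSeries
open Groth.Agent.UnramA.PowerSeriesComplete

namespace Groth.Agent.Sga7.H757.FC2

open Groth.Agent.Sga7.H757.FC

variable {R A : Type u} [CommRing R] [CommRing A] [Algebra R A] [IsLocalRing R] [IsLocalRing A]

theorem ker_eps_le (ε : A →ₐ[R] R) {a : A} (ha : ε a = 0) : a ∈ maximalIdeal A := by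
  rw [mem_maximalIdeal, mem_nonunits_iff]
  intro hu
  have := hu.map ε
  rw [ha] at this
  exact not_isUnit_zero this

theorem sub_eps_mem (ε : A →ₐ[R] R) (a : A) : algebraMap R A (ε a) - a ∈ maximalIdeal A := by
  apply ker_eps_le ε
  rw [map_sub, AlgHom.commutes]
  simp

theorem eps_mem (ε : A →ₐ[R] R) {a : A} (ha : a ∈ maximalIdeal A) : ε a ∈ maximalIdeal R := by
  rw [mem_maximalIdeal, mem_nonunits_iff]
  intro hu
  have h1 : IsUnit (algebraMap R A (ε a)) := hu.map (algebraMap R A)
  have h2 : algebraMap R A (ε a) ∈ maximalIdeal A := by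
    have := add_mem (sub_eps_mem ε a) ha
    simpa using this
  exact (mem_maximalIdeal _).mp h2 h1

theorem isLocalHom_algebraMap (ε : A →ₐ[R] R) : IsLocalHom (algebraMap R A) := by
  refine ⟨fun r hr => ?_⟩
  have := hr.map ε
  simpa using this

theorem exists_chart [IsNoetherianRing R] [Algebra.EssFiniteType R A] [Algebra.FormallySmooth R A]
    (ε : A →ₐ[R] R) : ∃ (n : ℕ) (φ : MvPolynomial (Fin n) R →ₐ[R] A), IsChart φ ε := by
  obtain ⟨n, φ₀, -, het⟩ := Groth.Agent.UnramA.SmoothCompletion.exists_etale_coordinates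
    (A := R) (B := A) (fun b => ⟨ε b, sub_eps_mem ε b⟩)
  let a : Fin n → R := fun i => ε (φ₀ (.X i))
  let τ : MvPolynomial (Fin n) R →ₐ[R] MvPolynomial (Fin n) R :=
    MvPolynomial.aeval fun i => .X i - .C (a i)
  let τ' : MvPolynomial (Fin n) R →ₐ[R] MvPolynomial (Fin n) R :=
    MvPolynomial.aeval fun i => .X i + .C (a i)
  have hτ : Function.Bijective τ := by
    have h1 : τ.comp τ' = AlgHom.id R _ := by
      ext i : 1
      simp [τ, τ']
    have h2 : τ'.comp τ = AlgHom.id R _ := by
      ext i : 1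
      simp [τ, τ']
    exact (AlgEquiv.ofAlgHom τ τ' h1 h2).bijective
  refine ⟨n, φ₀.comp τ, ?_, ?_⟩
  · have h1 : τ.toRingHom.FormallyEtale :=
      Groth.Agent.UnramA.SmoothCompletion.formallyEtale_of_bijective _ hτ
    exact h1.comp het
  · intro i
    simp only [AlgHom.comp_apply, τ, MvPolynomial.aeval_X, map_sub]
    have : φ₀ (.C (a i)) = algebraMap R A (a i) := φ₀.commutes (a i)
    rw [this, AlgHom.commutes]
    simp [a]

variable {σ : Type} [Finite σ] {φ : MvPolynomial σ R →ₐ[R] A} {ε : A →ₐ[R] R} (h : IsChart φ ε)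

theorem taylor_mem_M {ι : A →ₐ[R] MvPowerSeries σ R} (hι : IsTaylor φ ε ι) (k : ℕ) {a : A}
    (ha : a ∈ maximalIdeal A ^ k) : ι a ∈ M (maximalIdeal R) σ ^ k := by
  have h1 : maximalIdeal A ≤ (M (maximalIdeal R) σ).comap ι := by
    intro b hb
    rw [Ideal.mem_comap, ← pow_one (M (maximalIdeal R) σ), mem_M_pow_iff]
    intro x
    by_cases hx : x = 0
    · subst hx
      have := hι.2 b
      rw [← coeff_zero_eq_constantCoeff_apply] at this
      simp only [map_zero, tsub_zero, pow_one]
      rw [this]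
      exact eps_mem ε hb
    · have : 1 - x.degree = 0 := by
        have : x.degree ≠ 0 := by rwa [Ne, Finsupp.degree_eq_zero_iff]
        omega
      rw [this, pow_zero, Ideal.one_eq_top]
      trivial
  have h2 : maximalIdeal A ^ k ≤ (M (maximalIdeal R) σ ^ k).comap ι :=
    (Ideal.pow_right_mono h1 k).trans (Ideal.le_comap_pow _ _)
  exact h2 ha

include h in
theorem dvd_of_taylor [IsNoetherianRing R] [Algebra.EssFiniteType R A]
    {ι : A →ₐ[R] MvPowerSeries σ R} (hι : IsTaylor φ ε ι) (π : R)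
    (hπ : maximalIdeal R = Ideal.span {π}) (a : A) (hdvd : ∀ I, π ∣ coeff I (ι a)) :
    algebraMap R A π ∣ a := by
  have hloc : IsLocalHom (algebraMap R A) := isLocalHom_algebraMap ε
  have hnoeth : IsNoetherianRing A := Algebra.EssFiniteType.isNoetherianRing R A
  have hφ : ∀ i, φ (.X i) ∈ maximalIdeal A := fun i => ker_eps_le ε (h.eps i)
  have key : ∀ k, a ∈ Ideal.span {algebraMap R A π} ⊔ maximalIdeal A ^ k := by
    intro k
    obtain ⟨p, hp⟩ := (Groth.Agent.UnramA.SmoothCompletion.quotients_of_etale_coordinates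
      (A := R) (B := A) (fun b => ⟨ε b, sub_eps_mem ε b⟩) φ hφ h.etale k).1 a
    have h1 := taylor_mem_M hι k hp
    rw [map_sub, hι.apply_poly, mem_M_pow_iff] at h1
    have h2 : ∀ x : σ →₀ ℕ, x.degree < k → π ∣ MvPolynomial.coeff x p := by
      intro x hx
      have h3 := h1 x
      have h4 : coeff x ((p : MvPowerSeries σ R) - ι a) ∈ maximalIdeal R :=
        Ideal.pow_le_self (by omega) h3
      rw [hπ, Ideal.mem_span_singleton, map_sub, MvPolynomial.coeff_coe] at h4
      have := dvd_add h4 (hdvd x)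
      simpa using this
    let p₁ : MvPolynomial σ R := truncTotal k (p : MvPowerSeries σ R)
    have h5 : MvPolynomial.C π ∣ p₁ := by
      rw [MvPolynomial.C_dvd_iff_dvd_coeff]
      intro x
      by_cases hx : x.degree < k
      · rw [coeff_truncTotal _ hx, MvPolynomial.coeff_coe]
        exact h2 x hx
      · rw [coeff_truncTotal_eq_zero _ (not_lt.mp hx)]
        exact dvd_zero _
    have h6 : p - p₁ ∈ MvPolynomial.idealOfVars σ R ^ k := by
      rw [MvPolynomial.mem_pow_idealOfVars_iff']
      intro x hx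
      rw [MvPolynomial.coeff_sub, coeff_truncTotal _ hx, MvPolynomial.coeff_coe, sub_self]
    have h7 : (MvPolynomial.idealOfVars σ R ^ k) ≤ (maximalIdeal A ^ k).comap φ := by
      refine le_trans (Ideal.pow_right_mono ?_ k) (Ideal.le_comap_pow _ _)
      rw [MvPolynomial.idealOfVars, Ideal.span_le]
      rintro _ ⟨i, rfl⟩
      exact hφ i
    have h8 : φ (p - p₁) ∈ maximalIdeal A ^ k := h7 h6
    have h9 : φ p₁ ∈ Ideal.span {algebraMap R A π} := by
      obtain ⟨q, hq⟩ := h5
      rw [hq, map_mul, Ideal.mem_span_singleton]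
      have : φ (.C π) = algebraMap R A π := φ.commutes π
      rw [this]
      exact dvd_mul_right _ _
    have h10 : a = φ p₁ + (φ (p - p₁) - (φ p - a)) := by
      rw [map_sub]; ring
    rw [h10]
    exact Ideal.add_mem _ (Ideal.mem_sup_left h9) (Ideal.mem_sup_right (sub_mem h8 hp))
  have h0 : Ideal.Quotient.mk (Ideal.span {algebraMap R A π}) a = 0 := by
    refine IsHausdorff.haus (I := maximalIdeal A) (M := A ⧸ Ideal.span {algebraMap R A π}) inferInstance _ fun k => ?_
    rw [SModEq.zero]
    obtain ⟨y, hy, z, hz, hyz⟩ := Submodule.mem_sup.mp (key k)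
    rw [← hyz, map_add, Ideal.Quotient.eq_zero_iff_mem.mpr hy, zero_add]
    have : Ideal.Quotient.mk (Ideal.span {algebraMap R A π}) z = z • (1 : A ⧸ Ideal.span {algebraMap R A π}) := by
      rw [Algebra.smul_def, mul_one]; rfl
    rw [this]
    exact Submodule.smul_mem_smul hz trivial
  rw [Ideal.Quotient.eq_zero_iff_mem, Ideal.mem_span_singleton] at h0
  exact h0

end Groth.Agent.Sga7.H757.FC2
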