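import Groth.Agent.Sga7.H757.FPts
import Groth.Agent.UnramA.Locus
import Mathlib.AlgebraicGeometry.Morphisms.Smooth
import Mathlib.RingTheory.RingHom.EssFiniteType
import Mathlib.RingTheory.Etale.Basic

/-!
# The local ring at the unit point of the special fibre
-/

set_option autoImplicit false
universe u
open CategoryTheory CategoryTheory.Limits AlgebraicGeometry MonObj IsLocalRing

namespace Groth.Agent.Sga7.H757.FNbhd

open Groth.Agent.Sga7.H757.FC Groth.Agent.Sga7.H757.FPts

section stalk

variable {R : Type u} [CommRing R] (N : Over (Spec (CommRingCat.of R))) (x : N.left)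

/-- the map `R → O_{N,x}` -/
noncomputable def toSt : CommRingCat.of R ⟶ N.left.presheaf.stalk x :=
  StructureSheaf.toStalk R (N.hom x) ≫ N.hom.stalkMap x

theorem fromSpecStalk_comp : N.left.fromSpecStalk x ≫ N.hom = Spec.map (toSt N x) := by
  rw [← Scheme.SpecMap_stalkMap_fromSpecStalk, Spec.fromSpecStalk_eq', toSt, Spec.map_comp]
  rfl

/-- the `R`-algebra `O_{N,x}` -/
noncomputable abbrev stAlg : Algebra R (N.left.presheaf.stalk x) := (toSt N x).hom.toAlgebra

/-- `Spec O_{N,x} ⟶ N` over `Spec R`. -/
noncomputable def stMor : letI := stAlg N x; specO R (N.left.presheaf.stalk x) ⟶ N :=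
  letI := stAlg N x
  Over.homMk (N.left.fromSpecStalk x) (fromSpecStalk_comp N x)

theorem exists_lift_of_eq {X : Scheme.{u}} (x : X) {C : CommRingCat.{u}} [IsLocalRing C] (f : Spec C ⟶ X)
    (h : f (closedPoint C) = x) : ∃ g : X.presheaf.stalk x ⟶ C, Spec.map g ≫ X.fromSpecStalk x = f := by
  subst h
  exact ⟨Scheme.stalkClosedPointTo f, Scheme.Spec_stalkClosedPointTo_fromSpecStalk f⟩

theorem exists_lift {C : Type u} [CommRing C] [IsLocalRing C] [Algebra R C] (p : specO R C ⟶ N)
    (h : p.left (closedPoint C) = x) :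
    letI := stAlg N x; ∃ χ : (N.left.presheaf.stalk x) →ₐ[R] C, specM χ ≫ stMor N x = p := by
  let := stAlg N x
  obtain ⟨g, hg⟩ := exists_lift_of_eq x (C := CommRingCat.of C) p.left h
  let f : specO R C ⟶ specO R (N.left.presheaf.stalk x) := Over.homMk (Spec.map g) (by
    have h1 := Over.w p
    rw [← hg, Category.assoc, fromSpecStalk_comp] at h1
    exact h1)
  obtain ⟨χ, hχ⟩ := exists_specM f
  refine ⟨χ, ?_⟩
  rw [hχ]
  ext1
  exact hg

theorem essFiniteType [LocallyOfFiniteType N.hom] :
    letI := stAlg N x; Algebra.EssFiniteType R (N.left.presheaf.stalk x) := by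
  have h1 : (N.hom.stalkMap x).hom.EssFiniteType := LocallyOfFiniteType.stalkMap N.hom x
  have h2 : (StructureSheaf.toStalk R (N.hom x)).hom.EssFiniteType := by
    have h3 : Algebra.EssFiniteType R ((Spec.structureSheaf R).presheaf.stalk (N.hom x)) :=
      Algebra.EssFiniteType.of_isLocalization _ (PrimeSpectrum.asIdeal (N.hom x)).primeCompl
    exact h3
  exact RingHom.EssFiniteType.comp h2 h1

theorem formallySmooth [Smooth N.hom] :
    letI := stAlg N x; Algebra.FormallySmooth R (N.left.presheaf.stalk x) := by
  have h1 : (N.hom.stalkMap x).hom.FormallySmooth :=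
    (Groth.Agent.UnramA.Locus.smooth_nhd_iff N.hom x).mp ⟨⊤, trivial, inferInstance⟩
  have h2 : (StructureSheaf.toStalk R (N.hom x)).hom.FormallySmooth := by
    have h3 : Algebra.FormallyEtale R ((Spec.structureSheaf R).presheaf.stalk (N.hom x)) :=
      Algebra.FormallyEtale.of_isLocalization (PrimeSpectrum.asIdeal (N.hom x)).primeCompl
    have h4 : Algebra.FormallySmooth R ((Spec.structureSheaf R).presheaf.stalk (N.hom x)) := inferInstance
    exact h4
  exact h2.comp h1

end stalk

section group

variable {R : Type u} [CommRing R] [IsLocalRing R] (N : Over (Spec (CommRingCat.of R))) [GrpObj N]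

/-- the unit point of the special fibre -/
noncomputable def unitPt : N.left := (1 : specO R R ⟶ N).left (closedPoint R)

noncomputable def nbhd : letI := stAlg N (unitPt N); Nbhd R N (N.left.presheaf.stalk (unitPt N)) :=
  letI := stAlg N (unitPt N)
  have hl := exists_lift N (unitPt N) (1 : specO R R ⟶ N) rfl
  { ψ := stMor N (unitPt N)
    mono := by
      change Mono (N.left.fromSpecStalk (unitPt N))
      infer_instance
    ε := hl.choose
    hε := hl.choose_spec
    lift := by
      intro C _ _ _ p hp
      refine exists_lift N (unitPt N) p ?_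
      rw [hp]
      exact Scheme.fromSpecStalk_closedPoint }

end group

end Groth.Agent.Sga7.H757.FNbhd
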