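import Groth.Agent.Sga7.H757.FC2
import Mathlib.AlgebraicGeometry.Stalk
import Mathlib.CategoryTheory.Monoidal.Cartesian.Grp
import Mathlib.CategoryTheory.Monoidal.Cartesian.Over
import Mathlib.AlgebraicGeometry.Pullbacks
import Mathlib.Algebra.TrivSqZeroExt.Basic

/-!
# Points of a group scheme near the unit section with values in local rings
-/

set_option autoImplicit false
universe u
open CategoryTheory CategoryTheory.Limits AlgebraicGeometry MonObj IsLocalRing

namespace Groth.Agent.Sga7.H757.FPts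

open Groth.Agent.Sga7.H757.FC

/-- `Spec C` over `Spec R`. -/
noncomputable abbrev specO (R C : Type u) [CommRing R] [CommRing C] [Algebra R C] : Over (Spec (CommRingCat.of R)) :=
  Over.mk (Spec.map (CommRingCat.ofHom (algebraMap R C)))

section

variable {R : Type u} [CommRing R] {C D E : Type u} [CommRing C] [Algebra R C] [CommRing D] [Algebra R D]
  [CommRing E] [Algebra R E]

noncomputable def specM (f : C →ₐ[R] D) : specO R D ⟶ specO R C :=
  Over.homMk (Spec.map (CommRingCat.ofHom f.toRingHom)) (by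
    dsimp only [specO, Over.mk_hom]
    rw [← Spec.map_comp, ← CommRingCat.ofHom_comp]; congr 2; exact f.comp_algebraMap)

@[simp] theorem specM_left (f : C →ₐ[R] D) : (specM f).left = Spec.map (CommRingCat.ofHom f.toRingHom) := rfl

theorem specM_comp (f : C →ₐ[R] D) (g : D →ₐ[R] E) : specM (g.comp f) = specM g ≫ specM f := by
  ext1
  simp only [specM_left, Over.comp_left]
  rw [← Spec.map_comp]
  rfl

theorem specM_id : specM (AlgHom.id R C) = 𝟙 _ := by
  ext1
  simp only [specM_left, Over.id_left]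
  exact Spec.map_id _

theorem specM_injective {f g : C →ₐ[R] D} (h : specM f = specM g) : f = g := by
  have h1 := congrArg CommaMorphism.left h
  simp only [specM_left] at h1
  have h2 := Spec.map_injective h1
  ext x
  have h3 := congrArg (fun φ => φ.hom x) h2
  exact h3

/-- A morphism between spectra over `Spec R` comes from an algebra homomorphism. -/
theorem exists_specM (f : specO R D ⟶ specO R C) : ∃ g : C →ₐ[R] D, specM g = f := by
  let g₀ : CommRingCat.of C ⟶ CommRingCat.of D := Spec.preimage f.left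
  have hg : Spec.map g₀ = f.left := Spec.map_preimage _
  have hw := Over.w f
  rw [← hg] at hw
  have h2 : CommRingCat.ofHom (algebraMap R C) ≫ g₀ = CommRingCat.ofHom (algebraMap R D) := by
    apply Spec.map_injective
    rw [Spec.map_comp]
    exact hw
  refine ⟨{ toRingHom := g₀.hom, commutes' := fun r => ?_ }, ?_⟩
  · exact congrArg (fun φ => φ.hom r) h2
  · ext1
    rw [specM_left, ← hg]
    rfl

end

/-- A local `R`-algebra `A` with a morphism `Spec A → N` which is universal among morphisms from local schemes hitting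
the unit point of the special fibre. -/
structure Nbhd (R : Type u) [CommRing R] [IsLocalRing R] (N : Over (Spec (CommRingCat.of R))) [GrpObj N]
    (A : Type u) [CommRing A] [IsLocalRing A] [Algebra R A] where
  ψ : specO R A ⟶ N
  mono : Mono ψ.left
  ε : A →ₐ[R] R
  hε : specM ε ≫ ψ = 1
  lift : ∀ (C : Type u) [CommRing C] [IsLocalRing C] [Algebra R C] (p : specO R C ⟶ N),
    p.left (closedPoint C) = ψ.left (closedPoint A) → ∃ χ : A →ₐ[R] C, specM χ ≫ ψ = p

section nbhd

variable {R : Type u} [CommRing R] [IsLocalRing R] {N : Over (Spec (CommRingCat.of R))} [GrpObj N]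
  {A : Type u} [CommRing A] [IsLocalRing A] [Algebra R A] (B : Nbhd R N A)

theorem Nbhd.inj {C : Type u} [CommRing C] [Algebra R C] {χ χ' : A →ₐ[R] C}
    (h : specM χ ≫ B.ψ = specM χ' ≫ B.ψ) : χ = χ' := by
  apply specM_injective
  ext1
  have h1 : (specM χ).left ≫ B.ψ.left = (specM χ').left ≫ B.ψ.left := congrArg Over.Hom.left h
  have := B.mono
  exact (cancel_mono _).mp h1

/-- the point given by the composition with the section is trivial -/
theorem Nbhd.const {C : Type u} [CommRing C] [Algebra R C] :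
    specM ((Algebra.ofId R C).comp B.ε) ≫ B.ψ = 1 := by
  rw [specM_comp, Category.assoc, B.hε]
  exact MonObj.comp_one _

theorem isLocalHom_eps (ε : A →ₐ[R] R) : IsLocalHom ε.toRingHom := by
  refine ⟨fun a ha => ?_⟩
  by_contra hna
  exact (mem_maximalIdeal _).mp (FC2.eps_mem ε ((mem_maximalIdeal _).mpr hna)) ha

/-- Product of two points congruent to the unit modulo `J`. -/
theorem Nbhd.exists_prod {C : Type u} [CommRing C] [IsLocalRing C] [Algebra R C] [IsLocalHom (algebraMap R C)]
    (J : Ideal C) (hJ : J ≤ maximalIdeal C) (χ χ' : A →ₐ[R] C)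
    (h : ∀ a, χ a - algebraMap R C (B.ε a) ∈ J) (h' : ∀ a, χ' a - algebraMap R C (B.ε a) ∈ J) :
    ∃ χ'' : A →ₐ[R] C, specM χ'' ≫ B.ψ = (specM χ ≫ B.ψ) * (specM χ' ≫ B.ψ) ∧
      ∀ a, χ'' a - algebraMap R C (B.ε a) ∈ J := by
  let q : C →ₐ[R] C ⧸ J := Ideal.Quotient.mkₐ R J
  have hJtop : J ≠ ⊤ := fun h0 => Ideal.IsPrime.ne_top' (top_le_iff.mp (h0 ▸ hJ))
  have hnt : Nontrivial (C ⧸ J) := Ideal.Quotient.nontrivial_iff.mpr hJtop
  have hloc : IsLocalRing (C ⧸ J) := IsLocalRing.of_surjective' q.toRingHom (Ideal.Quotient.mk_surjective)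
  have hqloc : IsLocalHom (Ideal.Quotient.mk J) :=
    IsLocalHom.of_surjective _ Ideal.Quotient.mk_surjective
  have hRq : IsLocalHom (algebraMap R (C ⧸ J)) := by
    rw [IsScalarTower.algebraMap_eq R C (C ⧸ J)]
    exact RingHom.isLocalHom_comp _ _
  have hq : ∀ ξ : A →ₐ[R] C, (∀ a, ξ a - algebraMap R C (B.ε a) ∈ J) →
      q.comp ξ = (Algebra.ofId R (C ⧸ J)).comp B.ε := by
    intro ξ hξ
    ext a
    exact Ideal.Quotient.eq.mpr (hξ a)
  let p := (specM χ ≫ B.ψ) * (specM χ' ≫ B.ψ)
  have hp : specM q ≫ p = 1 := by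
    simp only [p]
    rw [MonObj.comp_mul, ← Category.assoc, ← Category.assoc, ← specM_comp, ← specM_comp, hq χ h, hq χ' h',
      B.const, _root_.one_mul]
  have hcl : p.left (closedPoint C) = B.ψ.left (closedPoint A) := by
    have h1 : closedPoint C = (specM q).left (closedPoint (C ⧸ J)) :=
      (IsLocalRing.comap_closedPoint (Ideal.Quotient.mk J)).symm
    have h2 : p.left (closedPoint C) = (specM q ≫ p).left (closedPoint (C ⧸ J)) := by
      rw [h1]
      rfl
    have h3 : (1 : specO R (C ⧸ J) ⟶ N).left (closedPoint (C ⧸ J)) =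
        B.ψ.left ((specM ((Algebra.ofId R (C ⧸ J)).comp B.ε)).left (closedPoint (C ⧸ J))) := by
      rw [← B.const]
      rfl
    rw [h2, hp, h3]
    congr 1
    have hl : IsLocalHom ((Algebra.ofId R (C ⧸ J)).comp B.ε).toRingHom := by
      have h5 : ((Algebra.ofId R (C ⧸ J)).comp B.ε).toRingHom =
        (algebraMap R (C ⧸ J)).comp B.ε.toRingHom := rfl
      rw [h5]
      have := isLocalHom_eps B.ε
      exact RingHom.isLocalHom_comp _ _
    exact IsLocalRing.comap_closedPoint ((Algebra.ofId R (C ⧸ J)).comp B.ε).toRingHom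
  obtain ⟨χ'', hχ''⟩ := B.lift C p hcl
  refine ⟨χ'', hχ'', fun a => ?_⟩
  have h6 : q.comp χ'' = (Algebra.ofId R (C ⧸ J)).comp B.ε := by
    apply B.inj
    rw [specM_comp, Category.assoc, hχ'', hp, B.const]
  exact Ideal.Quotient.eq.mp (DFunLike.congr_fun h6 a)

end nbhd

end Groth.Agent.Sga7.H757.FPts
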