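import Groth.Agent.Ega41.PowEval
import Mathlib.RingTheory.LocalRing.ResidueField.Basic
import Mathlib.Tactic.Ring
import Mathlib.Tactic.LinearCombination

/-!
# Initial forms of power series with respect to Gauss valuations

`R` is a local ring with an element `π`, `f` a power series over `R`; `n, m, ν` natural numbers.
`IsInit π n m ν f g` says that the `(n,m)`-weight of all monomials of `f` is at least `ν` and that the polynomial `g`
over the residue field is the part of weight `ν`. If `W` is a `ϖ`-adically complete `R`-algebra with `π = ϖ ^ n`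
then `f (ϖ ^ m c) = ϖ ^ ν w` with `w` reducing to `g (c mod ϖ)`.
-/

set_option autoImplicit false

open MvPowerSeries IsLocalRing

namespace Groth.Agent.Sga7.H757.Gauss

variable {R : Type*} [CommRing R] [IsLocalRing R] {σ : Type*}

/-- the initial form of weight `ν` -/
def IsInit (π : R) (n m ν : ℕ) (f : MvPowerSeries σ R) (g : MvPolynomial σ (ResidueField R)) : Prop :=
  ∀ I : σ →₀ ℕ, (∃ p y, n * p + m * I.degree = ν ∧ coeff I f = π ^ p * y ∧
      MvPolynomial.coeff I g = residue R y) ∨
    (MvPolynomial.coeff I g = 0 ∧ ∃ p y, ν < n * p + m * I.degree ∧ coeff I f = π ^ p * y)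

/-- Existence of initial forms. -/
theorem exists_isInit [Finite σ] (π : R) (n m ν : ℕ) (hm : 0 < m) (f : MvPowerSeries σ R)
    (h : ∀ I : σ →₀ ℕ, ∃ p y, ν ≤ n * p + m * I.degree ∧ coeff I f = π ^ p * y) :
    ∃ g, IsInit π n m ν f g := by
  classical
  choose p y hp hy using h
  let g₀ : MvPowerSeries σ (ResidueField R) :=
    fun I => if n * p I + m * I.degree = ν then residue R (y I) else 0
  refine ⟨truncTotal (ν + 1) g₀, fun I => ?_⟩
  have hg : MvPolynomial.coeff I (truncTotal (ν + 1) g₀) =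
      if n * p I + m * I.degree = ν then residue R (y I) else 0 := by
    by_cases hI : I.degree < ν + 1
    · rw [coeff_truncTotal _ hI]
      rfl
    · rw [coeff_truncTotal_eq_zero _ (not_lt.mp hI), if_neg]
      have : I.degree ≤ m * I.degree := Nat.le_mul_of_pos_left _ hm
      omega
  rw [hg]
  by_cases hI : n * p I + m * I.degree = ν
  · left
    exact ⟨p I, y I, hI, hy I, by rw [if_pos hI]⟩
  · right
    refine ⟨by rw [if_neg hI], p I, y I, lt_of_le_of_ne (hp I) (Ne.symm hI), hy I⟩

section eval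

variable {W : Type*} [CommRing W] [Algebra R W] (ϖ : W) [IsAdicComplete (Ideal.span {ϖ}) W]
  {κ : Type*} [CommRing κ] [Algebra (ResidueField R) κ] (ρ : W →+* κ) (hρ : ρ ϖ = 0)
  (hρR : ∀ r : R, ρ (algebraMap R W r) = algebraMap (ResidueField R) κ (residue R r))
  {π : R} {n m ν : ℕ}

theorem smul_mem (hm : 0 < m) (c : σ → W) (i : σ) : ϖ ^ m * c i ∈ Ideal.span {ϖ} :=
  Ideal.mul_mem_right _ _ (Ideal.pow_mem_of_mem _ (Ideal.mem_span_singleton_self ϖ) m hm)

include hρ hρR in
theorem exists_powEval_eq [Fintype σ] (hπ : algebraMap R W π = ϖ ^ n) (hm : 0 < m)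
    (f : MvPowerSeries σ R) (g : MvPolynomial σ (ResidueField R)) (h : IsInit π n m ν f g) (c : σ → W) :
    ∃ w : W, Groth.Agent.Ega41.PowEval.powEval (R := R) (Ideal.span {ϖ}) (fun i => ϖ ^ m * c i)
        (smul_mem ϖ hm c) f = ϖ ^ ν * w ∧
      ρ w = MvPolynomial.aeval (fun i => ρ (c i)) g := by
  classical
  -- coefficientwise
  have hcoef : ∀ I : σ →₀ ℕ, ∃ w : W, algebraMap R W (coeff I f) * ϖ ^ (m * I.degree) = ϖ ^ ν * w ∧
      ρ w = algebraMap (ResidueField R) κ (MvPolynomial.coeff I g) := by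
    intro I
    rcases h I with ⟨p, y, hp, hy, hg⟩ | ⟨hg, p, y, hp, hy⟩
    · refine ⟨algebraMap R W y, ?_, ?_⟩
      · rw [hy, map_mul, map_pow, hπ, ← hp, pow_add, pow_mul]
        ring
      · rw [hg, hρR]
    · obtain ⟨e, he⟩ : ∃ e, n * p + m * I.degree = ν + 1 + e := ⟨n * p + m * I.degree - (ν + 1), by omega⟩
      refine ⟨ϖ * (ϖ ^ e * algebraMap R W y), ?_, ?_⟩
      · rw [hy, map_mul, map_pow, hπ]
        calc (ϖ ^ n) ^ p * algebraMap R W y * ϖ ^ (m * I.degree)
            = ϖ ^ (n * p + m * I.degree) * algebraMap R W y := by rw [pow_add, pow_mul ϖ n p]; ring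
          _ = _ := by rw [he]; ring
      · rw [hg, map_mul, hρ, zero_mul, map_zero]
  choose w hw1 hw2 using hcoef
  set x : σ → W := fun i => ϖ ^ m * c i with hx
  let M := ν + 1 + g.totalDegree
  set T : MvPolynomial σ R := truncTotal M f with hT
  let s : Finset (σ →₀ ℕ) := T.support ∪ g.support
  have hprod : ∀ I : σ →₀ ℕ, ∏ i, x i ^ I i = ϖ ^ (m * I.degree) * ∏ i, c i ^ I i := by
    intro I
    simp only [hx, mul_pow]
    rw [Finset.prod_mul_distrib]
    congr 1
    simp only [← pow_mul]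
    rw [Finset.prod_pow_eq_pow_sum, ← Finset.mul_sum, Finsupp.degree_eq_sum]
  have hTe : MvPolynomial.aeval x T = ∑ I ∈ s, algebraMap R W (MvPolynomial.coeff I T) * ∏ i, x i ^ I i := by
    rw [MvPolynomial.aeval_def, MvPolynomial.eval₂_eq']
    refine Finset.sum_subset Finset.subset_union_left fun I _ hI => ?_
    rw [MvPolynomial.notMem_support_iff.mp hI, map_zero, zero_mul]
  have hge : MvPolynomial.aeval (fun i => ρ (c i)) g =
      ∑ I ∈ s, algebraMap (ResidueField R) κ (MvPolynomial.coeff I g) * ∏ i, ρ (c i) ^ I i := by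
    rw [MvPolynomial.aeval_def, MvPolynomial.eval₂_eq']
    refine Finset.sum_subset Finset.subset_union_right fun I _ hI => ?_
    rw [MvPolynomial.notMem_support_iff.mp hI, map_zero, zero_mul]
  have hs : ∀ I ∈ s, I.degree < M := by
    intro I hI
    rcases Finset.mem_union.mp hI with hI | hI
    · by_contra hlt
      rw [not_lt] at hlt
      rw [MvPolynomial.mem_support_iff, hT, coeff_truncTotal_eq_zero _ hlt] at hI
      exact hI rfl
    · have := MvPolynomial.le_totalDegree hI
      have h2 : I.degree = I.sum fun _ e => e := rfl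
      simp only [M]
      omega
  have hmain : MvPolynomial.aeval x T = ϖ ^ ν * ∑ I ∈ s, w I * ∏ i, c i ^ I i := by
    rw [hTe, Finset.mul_sum]
    refine Finset.sum_congr rfl fun I hI => ?_
    rw [hT, coeff_truncTotal _ (hs I hI), hprod, ← mul_assoc, hw1]
    ring
  have hmk := Groth.Agent.Ega41.PowEval.mk_powEval (R := R) (Ideal.span {ϖ}) x (smul_mem ϖ hm c) M f
  rw [Ideal.Quotient.eq, Ideal.span_singleton_pow, Ideal.mem_span_singleton] at hmk
  obtain ⟨r, hr⟩ := hmk
  refine ⟨∑ I ∈ s, w I * ∏ i, c i ^ I i + ϖ * (ϖ ^ g.totalDegree * r), ?_, ?_⟩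
  · have h1 : Groth.Agent.Ega41.PowEval.powEval (R := R) (Ideal.span {ϖ}) x (smul_mem ϖ hm c) f =
        MvPolynomial.aeval x T + ϖ ^ M * r := by
      rw [← hr]; ring
    rw [h1, hmain]
    simp only [M]
    ring
  · rw [map_add, map_mul, hρ, zero_mul, add_zero, map_sum, hge]
    refine Finset.sum_congr rfl fun I _ => ?_
    rw [map_mul, hw2, map_prod]
    simp only [map_pow]

end eval

end Groth.Agent.Sga7.H757.Gauss
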