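import Groth.Agent.Sga7.H757.FNbhd
import Mathlib.AlgebraicGeometry.Morphisms.FiniteType
import Mathlib.AlgebraicGeometry.Morphisms.OpenImmersion
import Mathlib.RingTheory.Localization.FractionRing
import Mathlib.RingTheory.Localization.Integer
import Mathlib.RingTheory.DiscreteValuationRing.Basic

/-!
# Generic lifts along a homomorphism which is an isomorphism on generic fibres
-/

set_option autoImplicit false
universe u
open CategoryTheory CategoryTheory.Limits AlgebraicGeometry MonObj IsLocalRing

namespace Groth.Agent.Sga7.H757.Gen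

open Groth.Agent.Sga7.H757.FC Groth.Agent.Sga7.H757.FPts

section chart

variable {R : Type u} [CommRing R] (G : Over (Spec (CommRingCat.of R)))

/-- Affine charts over the base. -/
theorem exists_chart [LocallyOfFiniteType G.hom] (x : G.left) :
    ∃ (B : Type u) (_ : CommRing B) (_ : Algebra R B) (ν : specO R B ⟶ G), Algebra.FiniteType R B ∧
      IsOpenImmersion ν.left ∧ x ∈ Set.range ν.left := by
  obtain ⟨V, hV, hx, -⟩ := G.left.isBasis_affineOpens.exists_subset_of_mem_open (Set.mem_univ x) isOpen_univ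
  obtain ⟨V, hV', rfl⟩ := hV
  let g : CommRingCat.of R ⟶ Γ(G.left, V) := Spec.preimage (hV'.fromSpec ≫ G.hom)
  have hg : Spec.map g = hV'.fromSpec ≫ G.hom := Spec.map_preimage _
  let _ : Algebra R Γ(G.left, V) := g.hom.toAlgebra
  refine ⟨Γ(G.left, V), inferInstance, inferInstance, Over.homMk hV'.fromSpec hg.symm, ?_, ?_, ?_⟩
  · have h1 : LocallyOfFiniteType (Spec.map g) := by
      rw [hg]; infer_instance
    exact (HasRingHomProperty.Spec_iff (P := @LocallyOfFiniteType)).mp h1
  · change IsOpenImmersion hV'.fromSpec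
    infer_instance
  · change x ∈ Set.range hV'.fromSpec
    rw [hV'.range_fromSpec]
    exact hx

variable {G}

/-- Lifting through an affine chart. -/
theorem exists_lift_chart {B : Type u} [CommRing B] [Algebra R B] (ν : specO R B ⟶ G) [IsOpenImmersion ν.left]
    {C : Type u} [CommRing C] [Algebra R C] (p : specO R C ⟶ G) (h : Set.range p.left ⊆ Set.range ν.left) :
    ∃ g : B →ₐ[R] C, specM g ≫ ν = p := by
  let f : specO R C ⟶ specO R B := Over.homMk (IsOpenImmersion.lift ν.left p.left h) (by
    have h1 := Over.w ν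
    rw [← h1, IsOpenImmersion.lift_fac_assoc]
    exact Over.w p)
  obtain ⟨g, hg⟩ := exists_specM f
  refine ⟨g, ?_⟩
  rw [hg]
  ext1
  exact IsOpenImmersion.lift_fac _ _ h

theorem range_subset_of_closedPoint {X : Scheme.{u}} {C : CommRingCat.{u}} [IsLocalRing C] (p : Spec C ⟶ X)
    (U : X.Opens) (h : p (closedPoint C) ∈ U) : Set.range p ⊆ U := by
  have h1 := Scheme.preimage_eq_top_of_closedPoint_mem p h
  rintro _ ⟨y, rfl⟩
  have : y ∈ p ⁻¹ᵁ U := by rw [h1]; trivial
  exact this

theorem exists_lift_chart_local {B : Type u} [CommRing B] [Algebra R B] (ν : specO R B ⟶ G) [IsOpenImmersion ν.left]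
    {C : Type u} [CommRing C] [IsLocalRing C] [Algebra R C] (p : specO R C ⟶ G)
    (h : p.left (closedPoint C) ∈ Set.range ν.left) :
    ∃ g : B →ₐ[R] C, specM g ≫ ν = p := by
  refine exists_lift_chart ν p ?_
  exact range_subset_of_closedPoint (C := CommRingCat.of C) p.left ν.left.opensRange h

theorem specM_comp_mono_inj {B : Type u} [CommRing B] [Algebra R B] (ν : specO R B ⟶ G) [Mono ν.left]
    {C : Type u} [CommRing C] [Algebra R C] {χ χ' : B →ₐ[R] C}
    (h : specM χ ≫ ν = specM χ' ≫ ν) : χ = χ' := by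
  apply specM_injective
  ext1
  have h1 : (specM χ).left ≫ ν.left = (specM χ').left ≫ ν.left := congrArg Over.Hom.left h
  exact (cancel_mono _).mp h1

end chart

section cat

variable {C : Type*} [Category* C] [HasPullbacks C] {S T : C} (i : T ⟶ S) {G N : Over S} (u : G ⟶ N)

theorem pbm_fst : ((Over.pullback i).map u).left ≫ pullback.fst N.hom i = pullback.fst G.hom i ≫ u.left :=
  pullback.lift_fst _ _ _

theorem pbm_snd : ((Over.pullback i).map u).left ≫ pullback.snd N.hom i = pullback.snd G.hom i :=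
  pullback.lift_snd _ _ _

/-- the morphism to the pullback -/
noncomputable def toPb {X : Over S} (j : X.left ⟶ T) (hj : j ≫ i = X.hom) (p : X ⟶ N) :
    Over.mk j ⟶ (Over.pullback i).obj N :=
  Over.homMk (pullback.lift p.left j (by rw [hj, Over.w p])) (pullback.lift_snd _ _ _)

theorem toPb_fst {X : Over S} (j : X.left ⟶ T) (hj : j ≫ i = X.hom) (p : X ⟶ N) :
    (toPb i j hj p).left ≫ pullback.fst N.hom i = p.left := pullback.lift_fst _ _ _

theorem toPb_snd {X : Over S} (j : X.left ⟶ T) (hj : j ≫ i = X.hom) (p : X ⟶ N) :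
    (toPb i j hj p).left ≫ pullback.snd N.hom i = j := pullback.lift_snd _ _ _

theorem hom_ext_pb {X : Over T} {a b : X ⟶ (Over.pullback i).obj N}
    (h : a.left ≫ pullback.fst N.hom i = b.left ≫ pullback.fst N.hom i) : a = b := by
  ext1
  refine pullback.hom_ext h ?_
  have h1 : a.left ≫ pullback.snd N.hom i = X.hom := Over.w a
  have h2 : b.left ≫ pullback.snd N.hom i = X.hom := Over.w b
  exact h1.trans h2.symm

theorem toPb_comp {X : Over S} (j : X.left ⟶ T) (hj : j ≫ i = X.hom) (g : X ⟶ G) :
    toPb i j hj g ≫ (Over.pullback i).map u = toPb i j hj (g ≫ u) := by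
  apply hom_ext_pb
  rw [Over.comp_left, Category.assoc, pbm_fst, ← Category.assoc, toPb_fst, toPb_fst, Over.comp_left]

variable [IsIso ((Over.pullback i).map u)]

theorem exists_lift_of_isIso_pullback {X : Over S} (j : X.left ⟶ T) (hj : j ≫ i = X.hom) (p : X ⟶ N) :
    ∃ g : X ⟶ G, g ≫ u = p := by
  let g' : Over.mk j ⟶ (Over.pullback i).obj G := toPb i j hj p ≫ inv ((Over.pullback i).map u)
  have hge : g' ≫ (Over.pullback i).map u = toPb i j hj p := by simp [g']
  have hw : g'.left ≫ pullback.snd G.hom i = j := Over.w g'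
  have hw2 : (g'.left ≫ pullback.fst G.hom i) ≫ G.hom = X.hom := by
    rw [Category.assoc, pullback.condition, ← Category.assoc, hw, hj]
  refine ⟨Over.homMk (g'.left ≫ pullback.fst G.hom i) hw2, ?_⟩
  ext1
  have h1 : (g' ≫ (Over.pullback i).map u).left ≫ pullback.fst N.hom i = p.left := by
    rw [hge, toPb_fst]
  rw [Over.comp_left, Category.assoc, pbm_fst] at h1
  rw [Over.comp_left]
  change (g'.left ≫ pullback.fst G.hom i) ≫ u.left = p.left
  rw [Category.assoc, h1]

theorem lift_inj_of_isIso_pullback {X : Over S} (j : X.left ⟶ T) (hj : j ≫ i = X.hom) {g g' : X ⟶ G}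
    (h : g ≫ u = g' ≫ u) : g = g' := by
  have h1 : toPb i j hj g = toPb i j hj g' := by
    rw [← cancel_mono ((Over.pullback i).map u), toPb_comp, toPb_comp, h]
  ext1
  rw [← toPb_fst i j hj g, h1, toPb_fst]

end cat

section generic

variable {R K : Type u} [CommRing R] [Field K] [Algebra R K] {G N : Over (Spec (CommRingCat.of R))} (u : G ⟶ N)
  [IsIso ((Over.pullback (Spec.map (CommRingCat.ofHom (algebraMap R K)))).map u)]

theorem exists_genLift {C : Type u} [CommRing C] [Algebra R C] (k : K →+* C)
    (hk : k.comp (algebraMap R K) = algebraMap R C) (p : specO R C ⟶ N) : ∃ g : specO R C ⟶ G, g ≫ u = p := by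
  refine exists_lift_of_isIso_pullback (Spec.map (CommRingCat.ofHom (algebraMap R K))) u
    (X := specO R C) (Spec.map (CommRingCat.ofHom k)) ?_ p
  rw [← Spec.map_comp, ← CommRingCat.ofHom_comp, hk]
  rfl

theorem genLift_inj {C : Type u} [CommRing C] [Algebra R C] (k : K →+* C)
    (hk : k.comp (algebraMap R K) = algebraMap R C) {g g' : specO R C ⟶ G} (h : g ≫ u = g' ≫ u) : g = g' := by
  refine lift_inj_of_isIso_pullback (Spec.map (CommRingCat.ofHom (algebraMap R K))) u
    (X := specO R C) (Spec.map (CommRingCat.ofHom k)) ?_ h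
  rw [← Spec.map_comp, ← CommRingCat.ofHom_comp, hk]
  rfl

end generic

end Groth.Agent.Sga7.H757.Gen
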