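import Groth.Agent.Sga7.H757.Gen

/-!
# Generic functions of the source in terms of the formal coordinates of the target
-/

set_option autoImplicit false
universe u
open CategoryTheory CategoryTheory.Limits AlgebraicGeometry MonObj IsLocalRing

namespace Groth.Agent.Sga7.H757.Gen2

open Groth.Agent.Sga7.H757.FC Groth.Agent.Sga7.H757.FPts Groth.Agent.Sga7.H757.Gen Groth.Agent.Sga7.H757.FNbhd

variable {R K : Type u} [CommRing R] [IsDomain R] [IsLocalRing R] [Field K] [Algebra R K] [IsFractionRing R K]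
  {G N : Over (Spec (CommRingCat.of R))} [GrpObj G] [GrpObj N]

omit [IsDomain R] in
/-- The section of an affine chart around the unit point. -/
theorem exists_unit_chart [LocallyOfFiniteType G.hom] :
    ∃ (B : Type u) (_ : CommRing B) (_ : Algebra R B) (ν : specO R B ⟶ G) (εG : B →ₐ[R] R),
      Algebra.FiniteType R B ∧ IsOpenImmersion ν.left ∧ specM εG ≫ ν = 1 := by
  obtain ⟨B, _, _, ν, h1, h2, h3⟩ := exists_chart G (unitPt G)
  obtain ⟨εG, hεG⟩ := exists_lift_chart_local ν (1 : specO R R ⟶ G) h3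
  exact ⟨B, _, _, ν, εG, h1, h2, hεG⟩

omit [IsDomain R] [IsLocalRing R] in
theorem exists_generators {B : Type u} [CommRing B] [Algebra R B] [Algebra.FiniteType R B] (εG : B →ₐ[R] R) :
    ∃ (r : ℕ) (f : Fin r → B), Algebra.adjoin R (Set.range f) = ⊤ ∧ ∀ j, εG (f j) = 0 := by
  obtain ⟨s, hs⟩ := Algebra.FiniteType.out (R := R) (A := B)
  let e := s.equivFin
  refine ⟨s.card, fun j => (e.symm j : B) - algebraMap R B (εG (e.symm j : B)), ?_, fun j => by simp⟩
  rw [eq_top_iff, ← hs]
  refine Algebra.adjoin_le fun x hx => ?_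
  have h1 : x - algebraMap R B (εG x) ∈ Algebra.adjoin R
      (Set.range fun j => ((e.symm j : B) - algebraMap R B (εG (e.symm j : B)))) := by
    apply Algebra.subset_adjoin
    exact ⟨e ⟨x, hx⟩, by simp⟩
  have h2 := add_mem h1 (Subalgebra.algebraMap_mem (Algebra.adjoin R
      (Set.range fun j => ((e.symm j : B) - algebraMap R B (εG (e.symm j : B))))) (εG x))
  simpa using h2

variable (K) in
include K in
theorem exists_genData (u : G ⟶ N) [IsMonHom u]
    [IsIso ((Over.pullback (Spec.map (CommRingCat.ofHom (algebraMap R K)))).map u)]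
    {A : Type u} [CommRing A] [IsLocalRing A] [Algebra R A] (nb : Nbhd R N A)
    {B : Type u} [CommRing B] [Algebra R B] (ν : specO R B ⟶ G) [IsOpenImmersion ν.left] (εG : B →ₐ[R] R)
    (hεG : specM εG ≫ ν = 1) {r : ℕ} (f : Fin r → B) (hf : ∀ j, εG (f j) = 0) :
    ∃ (b : A) (a : Fin r → A), nb.ε b ≠ 0 ∧ (∀ j, nb.ε (a j) = 0) ∧
      ∀ (F : Type u) [Field F] [Algebra R F] (χ : A →ₐ[R] F), Function.Injective (algebraMap R F) → χ b ≠ 0 →
        ∃ Ψ : B →ₐ[R] F, (∀ j, Ψ (f j) * χ b = χ (a j)) ∧ specM Ψ ≫ ν ≫ u = specM χ ≫ nb.ψ := by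
  classical
  -- the generic localization of `A`
  let M : Submonoid A := Algebra.algebraMapSubmonoid A (nonZeroDivisors R)
  let A' := Localization M
  have hunit : ∀ y : nonZeroDivisors R, IsUnit (algebraMap R A' y) := by
    intro y
    rw [IsScalarTower.algebraMap_apply R A A']
    exact IsLocalization.map_units A' (⟨algebraMap R A y, Algebra.mem_algebraMapSubmonoid_of_mem y⟩ : M)
  let k : K →+* A' := IsLocalization.lift (M := nonZeroDivisors R) (g := algebraMap R A') hunit
  have hk : k.comp (algebraMap R K) = algebraMap R A' := IsLocalization.lift_comp hunit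
  let ι' : A →ₐ[R] A' := IsScalarTower.toAlgHom R A A'
  obtain ⟨θ, hθ⟩ := exists_genLift u k hk (specM ι' ≫ nb.ψ)
  -- extension of homomorphisms to fields
  have hext : ∀ (F : Type u) [Field F] [Algebra R F] (χ : A →ₐ[R] F), Function.Injective (algebraMap R F) →
      ∃ χ' : A' →ₐ[R] F, χ'.comp ι' = χ := by
    intro F _ _ χ hinj
    have h1 : ∀ y : M, IsUnit (χ y) := by
      rintro ⟨_, y, hy, rfl⟩
      rw [AlgHom.commutes, isUnit_iff_ne_zero]
      intro h0
      have : y = 0 := hinj (by rw [h0, map_zero])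
      exact nonZeroDivisors.ne_zero hy this
    refine ⟨IsLocalization.liftAlgHom (M := M) (f := χ) h1, ?_⟩
    ext x
    simp only [AlgHom.comp_apply, ι']
    exact IsLocalization.lift_eq _ _
  let εK₀ : A →ₐ[R] K := (Algebra.ofId R K).comp nb.ε
  obtain ⟨εK, hεK⟩ := hext K εK₀ (IsFractionRing.injective R K)
  have hεKθ : specM εK ≫ θ = 1 := by
    refine genLift_inj (K := K) u (RingHom.id K) (by rfl) ?_
    rw [Category.assoc, hθ, ← Category.assoc, ← specM_comp, hεK, specM_comp, Category.assoc, nb.hε,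
      MonObj.comp_one, MonObj.one_comp]
  -- the open set
  let O : (Spec (CommRingCat.of A')).Opens := θ.left ⁻¹ᵁ ν.left.opensRange
  let P : Spec (CommRingCat.of A') := (specM εK).left (closedPoint K)
  have hP : P ∈ O := by
    have h1 : θ.left P = (specM εK ≫ θ).left (closedPoint K) := rfl
    have h2 : (1 : specO R K ⟶ G).left (closedPoint K) =
        ν.left ((specM εG).left ((specM (Algebra.ofId R K)).left (closedPoint K))) := by
      have : (1 : specO R K ⟶ G) = specM (Algebra.ofId R K) ≫ (specM εG ≫ ν) := by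
        rw [hεG, MonObj.comp_one]
      rw [this]
      rfl
    change θ.left P ∈ ν.left.opensRange
    rw [h1, hεKθ, h2]
    exact ⟨_, rfl⟩
  obtain ⟨_, ⟨b', rfl⟩, hPb, hbO⟩ := PrimeSpectrum.isTopologicalBasis_basic_opens.exists_subset_of_mem_open hP O.isOpen
  obtain ⟨b₁, s₁, hb₁⟩ := IsLocalization.exists_mk'_eq M b'
  have hbas : (PrimeSpectrum.basicOpen (algebraMap A A' b₁) : Set (PrimeSpectrum A')) =
      PrimeSpectrum.basicOpen b' := by
    have h1 : algebraMap A A' b₁ = b' * algebraMap A A' s₁ := by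
      rw [← hb₁]; exact (IsLocalization.mk'_spec A' b₁ s₁).symm
    rw [h1, PrimeSpectrum.basicOpen_mul]
    have h2 : PrimeSpectrum.basicOpen (algebraMap A A' s₁) = ⊤ := by
      rw [eq_top_iff]
      intro y _
      exact fun hy => y.isPrime.ne_top (Ideal.eq_top_of_isUnit_mem _ hy (IsLocalization.map_units A' s₁))
    rw [h2, inf_top_eq]
  replace hPb : P ∈ (PrimeSpectrum.basicOpen (algebraMap A A' b₁) : Set (PrimeSpectrum A')) := by
    rw [hbas]; exact hPb
  have hbO' : ∀ y : PrimeSpectrum A', y ∈ (PrimeSpectrum.basicOpen (algebraMap A A' b₁) : Set (PrimeSpectrum A')) →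
      θ.left y ∈ ν.left.opensRange := by
    intro y hy
    rw [hbas] at hy
    exact hbO hy
  have hεb₁ : nb.ε b₁ ≠ 0 := by
    intro h0
    have h1 : εK (algebraMap A A' b₁) = 0 := by
      have := DFunLike.congr_fun hεK b₁
      have h2 : εK (algebraMap A A' b₁) = algebraMap R K (nb.ε b₁) := this
      rw [h2, h0, map_zero]
    apply hPb
    have h3 : algebraMap A A' b₁ ∈ (closedPoint K).asIdeal.comap εK.toRingHom := by
      rw [Ideal.mem_comap]
      change εK (algebraMap A A' b₁) ∈ _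
      rw [h1]
      exact Ideal.zero_mem _
    exact h3
  let A'' := Localization.Away (algebraMap A A' b₁)
  let ι'' : A' →ₐ[R] A'' := IsScalarTower.toAlgHom R A' A''
  have hrange : Set.range (specM ι'' ≫ θ).left ⊆ Set.range ν.left := by
    rintro _ ⟨y, rfl⟩
    have h1 : (specM ι'').left y ∈ (PrimeSpectrum.basicOpen (algebraMap A A' b₁) : Set (PrimeSpectrum A')) := by
      rw [← PrimeSpectrum.localization_away_comap_range A'' (algebraMap A A' b₁)]
      exact ⟨y, rfl⟩
    exact hbO' _ h1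
  obtain ⟨Φ, hΦ⟩ := exists_lift_chart ν (specM ι'' ≫ θ) hrange
  -- lifting to fields
  have hext2 : ∀ (F : Type u) [Field F] [Algebra R F] (χ : A →ₐ[R] F), Function.Injective (algebraMap R F) →
      χ b₁ ≠ 0 → ∃ χ' : A'' →ₐ[R] F, χ'.comp (ι''.comp ι') = χ := by
    intro F _ _ χ hinj hb
    obtain ⟨χ', hχ'⟩ := hext F χ hinj
    have h1 : ∀ y : Submonoid.powers (algebraMap A A' b₁), IsUnit (χ' y) := by
      rintro ⟨_, n, rfl⟩
      have h2 : χ' (algebraMap A A' b₁) = χ b₁ := DFunLike.congr_fun hχ' b₁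
      simp only [map_pow, h2]
      exact (isUnit_iff_ne_zero.mpr hb).pow n
    refine ⟨IsLocalization.liftAlgHom (M := Submonoid.powers (algebraMap A A' b₁)) (f := χ') h1, ?_⟩
    rw [← hχ', ← AlgHom.comp_assoc]
    congr 1
    ext x
    simp only [AlgHom.comp_apply, ι'']
    exact IsLocalization.lift_eq _ _
  -- denominators
  let ιA : A →ₐ[R] A'' := ι''.comp ι'
  have hden : ∀ y : A'', ∃ c a : A, nb.ε c ≠ 0 ∧ y * ιA c = ιA a := by
    intro y
    obtain ⟨n, x', hx'⟩ := IsLocalization.Away.surj (algebraMap A A' b₁) y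
    obtain ⟨a, s, rfl⟩ := IsLocalization.exists_mk'_eq M x'
    obtain ⟨s₀, hs₀, hs⟩ := s.2
    refine ⟨b₁ ^ n * s, a, ?_, ?_⟩
    · rw [map_mul, map_pow]
      refine mul_ne_zero (pow_ne_zero _ hεb₁) ?_
      rw [← hs]
      rw [AlgHom.commutes]
      exact nonZeroDivisors.ne_zero hs₀
    · have h1 : ∀ z : A, ιA z = algebraMap A' A'' (algebraMap A A' z) := fun z => rfl
      rw [h1, h1, map_mul, map_mul, map_pow, map_pow, ← _root_.mul_assoc, hx', ← map_mul, IsLocalization.mk'_spec]
  have hstar : ∀ (F : Type u) [Field F] [Algebra R F] (χ : A →ₐ[R] F) (χ' : A'' →ₐ[R] F), χ'.comp ιA = χ →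
      specM (χ'.comp Φ) ≫ ν ≫ u = specM χ ≫ nb.ψ := by
    intro F _ _ χ χ' h
    calc specM (χ'.comp Φ) ≫ ν ≫ u = specM χ' ≫ (specM Φ ≫ ν) ≫ u := by
          rw [specM_comp]; simp only [Category.assoc]
      _ = specM χ' ≫ specM ι'' ≫ (θ ≫ u) := by rw [hΦ]; simp only [Category.assoc]
      _ = specM (χ'.comp ιA) ≫ nb.ψ := by
          rw [hθ, specM_comp, specM_comp]; simp only [Category.assoc]
      _ = _ := by rw [h]
  choose c a₀ hc ha using fun j => hden (Φ (f j))
  -- the values at the section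
  have ha0 : ∀ j, nb.ε (a₀ j) = 0 := by
    intro j
    obtain ⟨εK'', hεK''⟩ := hext2 K εK₀ (IsFractionRing.injective R K) (by
      change algebraMap R K (nb.ε b₁) ≠ 0
      intro h0
      exact hεb₁ (IsFractionRing.injective R K (by rw [h0, map_zero])))
    have h1 := hstar K εK₀ εK'' hεK''
    have h2 : specM (εK''.comp Φ) ≫ ν = specM ((Algebra.ofId R K).comp εG) ≫ ν := by
      refine genLift_inj (K := K) u (RingHom.id K) (by rfl) ?_
      rw [Category.assoc, h1, specM_comp, specM_comp, Category.assoc, nb.hε, Category.assoc, Category.assoc,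
        MonObj.comp_one]
      conv_rhs => rw [← Category.assoc (specM εG), hεG, MonObj.one_comp, MonObj.comp_one]
    have h3 := specM_comp_mono_inj ν h2
    have h4 : εK'' (Φ (f j)) = 0 := by
      have := DFunLike.congr_fun h3 (f j)
      rw [AlgHom.comp_apply, AlgHom.comp_apply, hf, map_zero] at this
      exact this
    have h5 := congrArg εK'' (ha j)
    rw [map_mul, h4, zero_mul] at h5
    have h6 : εK'' (ιA (a₀ j)) = algebraMap R K (nb.ε (a₀ j)) := DFunLike.congr_fun hεK'' (a₀ j)
    rw [h6] at h5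
    exact IsFractionRing.injective R K (by rw [← h5, map_zero])
  refine ⟨b₁ * ∏ j, c j, fun j => a₀ j * (b₁ * ∏ i ∈ Finset.univ.erase j, c i), ?_, ?_, ?_⟩
  · rw [map_mul, map_prod]
    exact mul_ne_zero hεb₁ (Finset.prod_ne_zero_iff.mpr fun j _ => hc j)
  · intro j
    rw [map_mul, ha0, zero_mul]
  · intro F _ _ χ hinj hχ
    have hχ1 : χ b₁ ≠ 0 := by
      intro h0
      apply hχ
      rw [map_mul, h0, zero_mul]
    obtain ⟨χ', hχ'⟩ := hext2 F χ hinj hχ1
    refine ⟨χ'.comp Φ, fun j => ?_, hstar F χ χ' hχ'⟩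
    have h1 : ∀ z : A, χ z = χ' (ιA z) := fun z => (DFunLike.congr_fun hχ' z).symm
    rw [AlgHom.comp_apply, h1, h1, ← map_mul]
    congr 1
    have h2 : ∏ i, c i = c j * ∏ i ∈ Finset.univ.erase j, c i :=
      (Finset.mul_prod_erase Finset.univ c (Finset.mem_univ j)).symm
    rw [h2]
    simp only [map_mul]
    rw [← ha j]
    ring

end Groth.Agent.Sga7.H757.Gen2
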