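import Groth.Agent.Sga7.H757.Comb
import Groth.Agent.Sga7.H757.Gauss
import Groth.Agent.Sga7.H757.FC2
import Mathlib.RingTheory.DiscreteValuationRing.Basic

/-!
# The Newton polygon dichotomy
-/

set_option autoImplicit false
universe u
open IsLocalRing MvPowerSeries

namespace Groth.Agent.Sga7.H757.Newton

open Groth.Agent.Sga7.H757.FC Groth.Agent.Sga7.H757.Gauss

section power

variable {R : Type u} [CommRing R] [IsDomain R] [IsDiscreteValuationRing R] {π : R} (hπ : Irreducible π)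
  {σ : Type}

/-- the Newton set -/
def NS (π : R) (f : MvPowerSeries σ R) : Set (ℕ × ℕ) :=
  {x | ∃ (I : σ →₀ ℕ) (y : R), IsUnit y ∧ coeff I f = π ^ x.1 * y ∧ I.degree = x.2}

include hπ in
theorem exists_mem_NS {f : MvPowerSeries σ R} {I : σ →₀ ℕ} (h : coeff I f ≠ 0) :
    ∃ p y, IsUnit y ∧ coeff I f = π ^ p * y ∧ (p, I.degree) ∈ NS π f := by
  obtain ⟨p, y, hy⟩ := IsDiscreteValuationRing.eq_unit_mul_pow_irreducible h hπ
  have h1 : coeff I f = π ^ p * (y : R) := by rw [hy, mul_comm]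
  exact ⟨p, y, y.isUnit, h1, I, y, y.isUnit, h1, rfl⟩

include hπ in
theorem exists_isInit_of_NS [Finite σ] {n m ν : ℕ} (hn : 0 < n) (hm : 0 < m) (f : MvPowerSeries σ R)
    (h : ∀ x ∈ NS π f, ν ≤ n * x.1 + m * x.2) : ∃ g, IsInit π n m ν f g := by
  refine exists_isInit π n m ν hm f fun I => ?_
  by_cases h0 : coeff I f = 0
  · refine ⟨ν, 0, ?_, by rw [h0, mul_zero]⟩
    have : ν ≤ n * ν := Nat.le_mul_of_pos_left _ hn
    omega
  · obtain ⟨p, y, -, hy, hx⟩ := exists_mem_NS hπ h0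
    exact ⟨p, y, h _ hx, hy⟩

include hπ in
theorem ne_zero_of_mem {n m ν : ℕ} (hn : 0 < n) {f : MvPowerSeries σ R} {g : MvPolynomial σ (ResidueField R)}
    (h : IsInit π n m ν f g) {x : ℕ × ℕ} (hx : x ∈ NS π f) (hxν : n * x.1 + m * x.2 = ν) : g ≠ 0 := by
  obtain ⟨I, y, hy, hI, hdeg⟩ := hx
  intro hg
  have hπ0 := hπ.ne_zero
  rcases h I with ⟨p, y', hp, hy', hc⟩ | ⟨-, p, y', hp, hy'⟩
  · have hpx : p = x.1 := by
      have h1 : n * p = n * x.1 := by rw [hdeg] at hp; omega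
      exact Nat.eq_of_mul_eq_mul_left hn h1
    rw [hI, hpx] at hy'
    have hyy : y = y' := mul_left_cancel₀ (pow_ne_zero _ hπ0) hy'
    rw [hg, MvPolynomial.coeff_zero, ← hyy] at hc
    exact (residue_ne_zero_iff_isUnit y).mpr hy hc.symm
  · have hpx : x.1 < p := by
      by_contra hcon
      rw [not_lt] at hcon
      have : n * p ≤ n * x.1 := Nat.mul_le_mul_left n hcon
      rw [hdeg] at hp
      omega
    obtain ⟨e, he⟩ : ∃ e, p = x.1 + (e + 1) := ⟨p - x.1 - 1, by omega⟩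
    rw [hI, he, pow_add, mul_assoc] at hy'
    have hyy : y = π ^ (e + 1) * y' := mul_left_cancel₀ (pow_ne_zero _ hπ0) hy'
    rw [pow_succ', mul_assoc] at hyy
    rw [hyy] at hy
    exact hπ.not_isUnit (isUnit_of_mul_isUnit_left hy)

end power

section dichotomy

variable {R A : Type u} [CommRing R] [IsDomain R] [IsDiscreteValuationRing R] [CommRing A] [Algebra R A]
  [IsLocalRing A] [Algebra.EssFiniteType R A] {σ : Type} [Finite σ] {φ : MvPolynomial σ R →ₐ[R] A} {ε : A →ₐ[R] R}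
  (h : IsChart φ ε) {ι : A →ₐ[R] MvPowerSeries σ R} (hι : IsTaylor φ ε ι) {π : R} (hπ : Irreducible π)

theorem coeff_algebraMap_mul (r : R) (a : A) (I : σ →₀ ℕ) :
    coeff I (ι (algebraMap R A r * a)) = r * coeff I (ι a) := by
  rw [map_mul, AlgHom.commutes, MvPowerSeries.algebraMap_apply]
  simp

include h hι hπ in
theorem pow_dvd_of_taylor (k : ℕ) (a : A) (hdvd : ∀ I, π ^ k ∣ coeff I (ι a)) :
    algebraMap R A (π ^ k) ∣ a := by
  induction k generalizing a with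
  | zero => simp
  | succ k ih =>
    obtain ⟨a', ha'⟩ := FC2.dvd_of_taylor h hι π hπ.maximalIdeal_eq a
      (fun I => (dvd_pow_self π (Nat.succ_ne_zero k)).trans (hdvd I))
    have h1 : ∀ I, π ^ k ∣ coeff I (ι a') := by
      intro I
      have h2 := hdvd I
      rw [ha', coeff_algebraMap_mul, pow_succ'] at h2
      exact (mul_dvd_mul_iff_left hπ.ne_zero).mp h2
    obtain ⟨a'', ha''⟩ := ih a' h1
    refine ⟨a'', ?_⟩
    rw [ha', ha'', pow_succ', map_mul, mul_assoc]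

include h hι hπ in
theorem dichotomy {r : ℕ} (b : A) (a : Fin r → A) (hb : ε b ≠ 0) (ha : ∀ j, ε (a j) = 0) :
    (∃ (β : ℕ) (b₁ : A) (a' : Fin r → A), b = algebraMap R A (π ^ β) * b₁ ∧
      (∀ j, a j = algebraMap R A (π ^ β) * a' j) ∧ ¬ algebraMap R A π ∣ b₁) ∨
    (∃ (n m ν : ℕ) (gb : MvPolynomial σ (ResidueField R)) (g : Fin r → MvPolynomial σ (ResidueField R)),
      2 ≤ n ∧ 0 < m ∧ IsInit π n m ν (ι b) gb ∧ (∀ j, IsInit π n m ν (ι (a j)) (g j)) ∧ gb ≠ 0 ∧ ∃ j, g j ≠ 0) := by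
  classical
  let S' := NS π (ι b)
  let S : Set (ℕ × ℕ) := ⋃ j, NS π (ι (a j))
  have h1 : ∀ x ∈ S, 1 ≤ x.2 := by
    intro x hx
    obtain ⟨j, hj⟩ := Set.mem_iUnion.mp hx
    obtain ⟨I, y, hy, hI, hdeg⟩ := hj
    rw [← hdeg]
    by_contra hcon
    have h0 : I = 0 := by
      rw [← Finsupp.degree_eq_zero_iff]; omega
    rw [h0, coeff_zero_eq_constantCoeff_apply, hι.2, ha j] at hI
    rcases mul_eq_zero.mp hI.symm with h2 | h2
    · exact pow_ne_zero _ hπ.ne_zero h2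
    · exact hy.ne_zero h2
  have h2 : ∃ p, (p, 0) ∈ S' := by
    have h3 : coeff 0 (ι b) ≠ 0 := by
      rw [coeff_zero_eq_constantCoeff_apply, hι.2]; exact hb
    obtain ⟨p, y, -, -, hx⟩ := exists_mem_NS hπ h3
    exact ⟨p, by simpa using hx⟩
  by_cases h3 : ∃ x ∈ S, ∀ y ∈ S', x.1 < y.1
  · right
    obtain ⟨n, m, hn, hm, x, hx, x', hx', he, hmin⟩ := Comb.exists_slope S S' h1 h2 h3
    set ν := 2 * n * x.1 + 2 * m * x.2 with hν
    have hν' : 2 * n * x'.1 + 2 * m * x'.2 = ν := by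
      rw [hν]
      have := congrArg (fun t => 2 * t) he
      simp only [mul_add, ← mul_assoc] at this
      exact this.symm
    have hle : ∀ y ∈ S ∪ S', ν ≤ 2 * n * y.1 + 2 * m * y.2 := by
      intro y hy
      have := Nat.mul_le_mul_left 2 (hmin y hy)
      simp only [mul_add, ← mul_assoc] at this
      exact this
    have hn2 : 0 < 2 * n := by omega
    have hm2 : 0 < 2 * m := by omega
    obtain ⟨gb, hgb⟩ := exists_isInit_of_NS hπ hn2 hm2 (ι b) (fun y hy => hle y (Or.inr hy))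
    have hg : ∀ j, ∃ g, IsInit π (2 * n) (2 * m) ν (ι (a j)) g := fun j =>
      exists_isInit_of_NS hπ hn2 hm2 (ι (a j)) (fun y hy => hle y (Or.inl (Set.mem_iUnion.mpr ⟨j, hy⟩)))
    choose g hg using hg
    obtain ⟨j, hj⟩ := Set.mem_iUnion.mp hx
    exact ⟨2 * n, 2 * m, ν, gb, g, by omega, hm2, hgb, hg, ne_zero_of_mem hπ hn2 hgb hx' hν', j,
      ne_zero_of_mem hπ hn2 (hg j) hj rfl⟩
  · left
    push Not at h3
    -- the minimal order
    have hne : ∃ p, ∃ q, (p, q) ∈ S' := by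
      obtain ⟨p, hp⟩ := h2
      exact ⟨p, 0, hp⟩
    let β := Nat.find hne
    obtain ⟨q, hq⟩ : ∃ q, (β, q) ∈ S' := Nat.find_spec hne
    have hβ : ∀ y ∈ S', β ≤ y.1 := fun y hy => Nat.find_min' hne ⟨y.2, hy⟩
    have hdiv : ∀ f : MvPowerSeries σ R, (∀ y ∈ NS π f, β ≤ y.1) → ∀ I, π ^ β ∣ coeff I f := by
      intro f hf I
      by_cases h0 : coeff I f = 0
      · rw [h0]; exact dvd_zero _
      · obtain ⟨p, y, -, hy, hx⟩ := exists_mem_NS hπ h0
        rw [hy]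
        exact Dvd.dvd.mul_right (pow_dvd_pow _ (hf _ hx)) _
    obtain ⟨b₁, hb₁⟩ := pow_dvd_of_taylor h hι hπ β b (hdiv _ hβ)
    have hbj : ∀ j, ∃ a', a j = algebraMap R A (π ^ β) * a' := by
      intro j
      refine pow_dvd_of_taylor h hι hπ β (a j) (hdiv _ fun y hy => ?_)
      obtain ⟨z, hz, hzy⟩ := h3 y (Set.mem_iUnion.mpr ⟨j, hy⟩)
      exact (hβ z hz).trans hzy
    choose a' ha' using hbj
    refine ⟨β, b₁, a', hb₁, ha', ?_⟩
    rintro ⟨c, hc⟩
    obtain ⟨I, y, hy, hI, -⟩ := hq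
    rw [hb₁, hc, coeff_algebraMap_mul, coeff_algebraMap_mul] at hI
    have h4 : π * coeff I (ι c) = y := mul_left_cancel₀ (pow_ne_zero _ hπ.ne_zero) hI
    rw [← h4] at hy
    exact hπ.not_isUnit (isUnit_of_mul_isUnit_left hy)

end dichotomy

end Groth.Agent.Sga7.H757.Newton
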